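import Groth.Agent.CohCmpLib.PullMod
import Groth.Agent.PicAux.Pullback

/-!
# Pullback of cohomology between opens, on classes of cocycles
-/

universe u

open CategoryTheory Limits AlgebraicGeometry TopologicalSpace Opposite
open Groth.CohBase
open Groth.PicAux (pullSec pullSec_map pullSec_comp res_pullSec restrictIso_pullSec)

set_option maxHeartbeats 800000
set_option backward.isDefEq.respectTransparency false
set_option backward.defeqAttrib.useBackward true
set_option backward.isDefEq.respectTransparency.types false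

namespace Groth.CohCmpLib

variable {X' X : Scheme.{u}}

/-- Composites on cohomology. -/
theorem mapH_comp {M N P : X.Modules} (a : M ⟶ N) (b : N ⟶ P) (p : ℕ) (x : Coh.HH X M p) :
    CohPull.mapH (a ≫ b) p x = CohPull.mapH b p (CohPull.mapH a p x) := by
  change Sheaf.H.map ((SheafOfModules.toSheaf X.ringCatSheaf).map (a ≫ b)) p x = _
  rw [Functor.map_comp]
  exact Sheaf.H.map_comp_apply _ _ _

/-- Inverse images along equal morphisms, on pulled back sections. -/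
theorem pullbackCongr_pullSec {a b : X' ⟶ X} (e : a = b) (M : X.Modules) {V : X.Opens}
    (m : Γ(M, V)) :
    ((Scheme.Modules.pullbackCongr e).hom.app M).app (a ⁻¹ᵁ V) (pullSec a M m) =
      QCohMod.res _ (by subst e; exact le_rfl) (pullSec b M m) := by
  subst e
  exact (QCohMod.res_self _ _).symm

/-- The identity inverse image, on pulled back sections. -/
theorem pullbackId_pullSec {X₀ : Scheme.{u}} (M : X₀.Modules) {V : X₀.Opens} (m : Γ(M, V)) :
    ((Scheme.Modules.pullbackId X₀).hom.app M).app V (pullSec (𝟙 X₀) M m) = m := by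
  have h := unit_conjugateEquiv Adjunction.id
    (Scheme.Modules.pullbackPushforwardAdjunction (𝟙 X₀)) (Scheme.Modules.pullbackId X₀).hom M
  rw [Scheme.Modules.conjugateEquiv_pullbackId_hom] at h
  exact (congr(($h).app V m)).symm

/-- The comparison of restriction and inverse image, on sections. -/
theorem restrictIso_res {X₀ : Scheme.{u}} (U : X₀.Opens) (F : X₀.Modules) {V : X₀.Opens}
    (m : Γ(F, V)) (W : U.toScheme.Opens) (hW : U.ι ''ᵁ W ≤ V) (hW' : W ≤ U.ι ⁻¹ᵁ V) :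
    ((Scheme.Modules.restrictFunctorIsoPullback U.ι).hom.app F).app W
        (QCohMod.res F hW m : Γ(F, U.ι ''ᵁ W)) = QCohMod.res _ hW' (pullSec U.ι F m) := by
  rw [← restrictIso_pullSec U.ι F m]
  refine Eq.trans ?_ (QCohMod.res_app ((Scheme.Modules.restrictFunctorIsoPullback U.ι).hom.app F)
    hW' _).symm
  exact congrArg _ (QCohMod.res_res F (U.ι.image_preimage_le V) (U.ι.image_mono hW') m).symm

/-- The inverse comparison on pulled back sections. -/
theorem restrictIso_inv_pullSec {X₀ : Scheme.{u}} (U : X₀.Opens) (M : X₀.Modules) {V : X₀.Opens}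
    (x : Γ(M, V)) :
    ((Scheme.Modules.restrictFunctorIsoPullback U.ι).inv.app M).app
      (U.ι ⁻¹ᵁ V) (pullSec U.ι M x) =
      (QCohMod.res M (U.ι.image_preimage_le V) x : Γ(M, U.ι ''ᵁ (U.ι ⁻¹ᵁ V))) := by
  rw [← restrictIso_pullSec U.ι M x]
  exact congr(($((Scheme.Modules.restrictFunctorIsoPullback U.ι).hom_inv_id_app M)).app
    (U.ι ⁻¹ᵁ V) (QCohMod.res M (U.ι.image_preimage_le V) x))

/-- The inverse of the composition isomorphism on pulled back sections. -/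
theorem pullbackComp_inv_pullSec {X₀ : Scheme.{u}} (a : X₀ ⟶ X') (g : X' ⟶ X) (F : X.Modules)
    {V : X.Opens} (m : Γ(F, V)) :
    ((Scheme.Modules.pullbackComp a g).inv.app F).app (a ⁻¹ᵁ g ⁻¹ᵁ V)
      (pullSec (a ≫ g) F m) = pullSec a _ (pullSec g F m) := by
  rw [← pullSec_comp a g F m]
  exact congr(($((Scheme.Modules.pullbackComp a g).hom_inv_id_app F)).app
    (a ⁻¹ᵁ g ⁻¹ᵁ V) (pullSec a _ (pullSec g F m)))

section Square

variable {V₁ : Scheme.{u}} (g₁ : V₁ ⟶ X') (j : X' ⟶ X) {W : X'.Opens}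

/-- Step along a composition isomorphism. -/
theorem pullbackComp_res (F : X.Modules) {V : X.Opens} (m : Γ(F, V)) (hW : W ≤ j ⁻¹ᵁ V) :
    ((Scheme.Modules.pullbackComp g₁ j).hom.app F).app (g₁ ⁻¹ᵁ W)
        (QCohMod.res _ (g₁.preimage_mono hW) (pullSec g₁ _ (pullSec j F m))) =
      QCohMod.res _ (g₁.preimage_mono hW) (pullSec (g₁ ≫ j) F m) :=
  (QCohMod.res_app ((Scheme.Modules.pullbackComp g₁ j).hom.app F) (g₁.preimage_mono hW)
    (pullSec g₁ _ (pullSec j F m))).symm.trans (congrArg _ (pullSec_comp g₁ j F m))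

end Square

/-- The comparison of inverse images and restrictions for a square, on pulled back sections. -/
theorem squareIso_pullSec (U : X.Opens) (U' : X'.Opens) (g : X' ⟶ X) (g₁ : U'.toScheme ⟶ U.toScheme)
    (hc : g₁ ≫ U.ι = U'.ι ≫ g) (F : X.Modules) {V : X.Opens} (m : Γ(F, V))
    (W : U.toScheme.Opens) (hW : U.ι ''ᵁ W ≤ V) (e : U'.ι ''ᵁ (g₁ ⁻¹ᵁ W) ≤ g ⁻¹ᵁ V)
    (hW' : W ≤ U.ι ⁻¹ᵁ V) (key : g₁ ⁻¹ᵁ W ≤ U'.ι ⁻¹ᵁ g ⁻¹ᵁ V) :
    ((Scheme.Modules.restrictFunctorIsoPullback U'.ι).inv.app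
        ((Scheme.Modules.pullback g).obj F)).app (g₁ ⁻¹ᵁ W)
      (((Scheme.Modules.pullbackComp U'.ι g).inv.app F).app (g₁ ⁻¹ᵁ W)
        (((Scheme.Modules.pullbackCongr hc).hom.app F).app (g₁ ⁻¹ᵁ W)
          (((Scheme.Modules.pullbackComp g₁ U.ι).hom.app F).app (g₁ ⁻¹ᵁ W)
            (((Scheme.Modules.pullback g₁).map
                ((Scheme.Modules.restrictFunctorIsoPullback U.ι).hom.app F)).app (g₁ ⁻¹ᵁ W)
              (pullSec g₁ (F.restrict U.ι) (QCohMod.res F hW m : Γ(F, U.ι ''ᵁ W))))))) =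
      (QCohMod.res ((Scheme.Modules.pullback g).obj F) e (pullSec g F m) :
        Γ((Scheme.Modules.pullback g).obj F, U'.ι ''ᵁ (g₁ ⁻¹ᵁ W))) := by
  have s5 : ((Scheme.Modules.pullback g₁).map
      ((Scheme.Modules.restrictFunctorIsoPullback U.ι).hom.app F)).app (g₁ ⁻¹ᵁ W)
        (pullSec g₁ (F.restrict U.ι) (QCohMod.res F hW m : Γ(F, U.ι ''ᵁ W))) =
      QCohMod.res _ (g₁.preimage_mono hW') (pullSec g₁ _ (pullSec U.ι F m)) :=
    (pullSec_map _ _ _).trans ((congrArg (pullSec _ _) (restrictIso_res U F m W hW hW')).trans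
      (res_pullSec _ _ hW' _).symm)
  refine (congrArg _ (congrArg _ (congrArg _ ((congrArg _ s5).trans
    (pullbackComp_res g₁ U.ι F m hW'))))).trans ?_
  refine (congrArg _ (congrArg _ ((QCohMod.res_app ((Scheme.Modules.pullbackCongr hc).hom.app F)
    (g₁.preimage_mono hW') (pullSec (g₁ ≫ U.ι) F m)).symm.trans
      ((congrArg _ (pullbackCongr_pullSec hc F m)).trans (QCohMod.res_res _ _ (g₁.preimage_mono hW') _))))).trans ?_
  refine (congrArg _ ((QCohMod.res_app ((Scheme.Modules.pullbackComp U'.ι g).inv.app F) key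
    (pullSec (U'.ι ≫ g) F m)).symm.trans
      (congrArg _ (pullbackComp_inv_pullSec U'.ι g F m)))).trans ?_
  let M := (Scheme.Modules.pullback g).obj F
  refine (QCohMod.res_app ((Scheme.Modules.restrictFunctorIsoPullback U'.ι).inv.app M) key
    (pullSec U'.ι M (pullSec g F m))).symm.trans ?_
  rw [restrictIso_inv_pullSec U' M (pullSec g F m)]
  exact QCohMod.res_res M (U'.ι.image_preimage_le (g ⁻¹ᵁ V)) (U'.ι.image_mono key) (pullSec g F m)

/-- `pullOnIso` on pulled back sections. -/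
theorem pullOnIso_pullSec (g : X' ⟶ X) (U : X.Opens) (U' : X'.Opens) (h : U' ≤ g ⁻¹ᵁ U)
    (F : X.Modules) {V : X.Opens} (m : Γ(F, V)) (W : U.toScheme.Opens) (hW : U.ι ''ᵁ W ≤ V)
    (e : U'.ι ''ᵁ (g.resLE U U' h ⁻¹ᵁ W) ≤ g ⁻¹ᵁ V) :
    (CohPull.pullOnIso g U U' h F).hom.app (g.resLE U U' h ⁻¹ᵁ W)
        (pullSec (g.resLE U U' h) (F.restrict U.ι) (QCohMod.res F hW m : Γ(F, U.ι ''ᵁ W))) =
      (QCohMod.res ((Scheme.Modules.pullback g).obj F) e (pullSec g F m) :
        Γ((Scheme.Modules.pullback g).obj F, U'.ι ''ᵁ (g.resLE U U' h ⁻¹ᵁ W))) := by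
  have hW' : W ≤ U.ι ⁻¹ᵁ V := fun x hx => hW ⟨x, hx, rfl⟩
  have key : g.resLE U U' h ⁻¹ᵁ W ≤ U'.ι ⁻¹ᵁ g ⁻¹ᵁ V := fun x hx => e ⟨x, hx, rfl⟩
  exact squareIso_pullSec U U' g (g.resLE U U' h) (Scheme.Hom.resLE_comp_ι g h) F m W hW e hW' key

variable (g : X' ⟶ X) (U : X.Opens) (U' : X'.Opens) (h : U' ≤ g ⁻¹ᵁ U)

lemma resLE_image_le (W : U.toScheme.Opens) :
    U'.ι ''ᵁ (g.resLE U U' h ⁻¹ᵁ W) ≤ g ⁻¹ᵁ (U.ι ''ᵁ W) := by
  rintro _ ⟨x, hx, rfl⟩
  refine ⟨g.resLE U U' h x, hx, ?_⟩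
  exact congr($(Scheme.Hom.resLE_comp_ι g h) x)

/-- A map `A → g_* B` of abelian sheaves, restricted to opens. -/
noncomputable def restrPush {A : X.Modules} {B : X'.Modules}
    (ψ : (toAbF X).obj A ⟶ (CohTop.push g.base).obj ((toAbF X').obj B)) :
    (toAbF U.toScheme).obj (A.restrict U.ι) ⟶
      (CohTop.push (g.resLE U U' h).base).obj ((toAbF U'.toScheme).obj (B.restrict U'.ι)) :=
  ⟨{ app := fun W => AddCommGrpCat.ofHom
      ((QCohMod.res B (resLE_image_le g U U' h W.unop)).comp (ψ.hom.app (op (U.ι ''ᵁ W.unop))).hom)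
     naturality := fun W W' i => by
      refine AddCommGrpCat.ext fun s => ?_
      have hn := congr($(ψ.hom.naturality (homOfLE (U.ι.image_mono (leOfHom i.unop))).op) s)
      refine (congrArg (QCohMod.res B (resLE_image_le g U U' h W'.unop)) hn).trans ?_
      change QCohMod.res B _ (QCohMod.res B (g.preimage_mono (U.ι.image_mono (leOfHom i.unop)))
          (ψ.hom.app (op (U.ι ''ᵁ W.unop)) s)) =
        QCohMod.res B (U'.ι.image_mono ((g.resLE U U' h).preimage_mono (leOfHom i.unop)))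
          (QCohMod.res B (resLE_image_le g U U' h W.unop) (ψ.hom.app (op (U.ι ''ᵁ W.unop)) s))
      exact (QCohMod.res_res B _ _ _).trans (QCohMod.res_res B _ _ _).symm }⟩

variable {g}

/-- Pullback between opens of the class of a cocycle is the class of the pulled back cocycle. -/
theorem pullOn_clsU (R : Res X.Modules) (R' : Res X'.Modules)
    (f₀ : (Scheme.Modules.pullback g).obj R.Y ⟶ R'.Y)
    (ψ : ∀ n, (toAbF X).obj (R.A n) ⟶ (CohTop.push g.base).obj ((toAbF X').obj (R'.A n)))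
    (hψ : ∀ n, (toAbF X).map (R.d n) ≫ ψ (n + 1) =
      ψ n ≫ (CohTop.push g.base).map ((toAbF X').map (R'.d n)))
    (hι : ∀ (V : X.Opens) (m : Γ(R.Y, V)), (ψ 0).hom.app (op V) (R.ι.app V m) =
      R'.ι.app (g ⁻¹ᵁ V) (f₀.app (g ⁻¹ᵁ V) (pullSec g R.Y m)))
    (p : ℕ) (z : R.Cyc U p) (z' : R'.Cyc U' p)
    (hz : z'.1 = QCohMod.res (R'.A p) h ((ψ p).hom.app (op U) z.1)) :
    CohPull.mapH ((Scheme.Modules.restrictFunctor U'.ι).map f₀) p
        (CohPull.pullOn g U U' h R.Y p (clsU R U p z)) = clsU R' U' p z' := by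
  let g₁ := g.resLE U U' h
  let f₁ : (Scheme.Modules.pullback g₁).obj (R.Y.restrict U.ι) ⟶ R'.Y.restrict U'.ι :=
    (CohPull.pullOnIso g U U' h R.Y).hom ≫ (Scheme.Modules.restrictFunctor U'.ι).map f₀
  rw [clsU_apply, clsU_apply]
  refine Eq.trans ?_ (pullMod_clsTop g₁ (R.restr U) (R'.restr U') f₁
    (fun n => restrPush g U U' h (ψ n)) (fun n => ?_) ?_ p (toRestr R U p z) (toRestr R' U' p z') ?_)
  · rw [mapH_comp]
    rfl
  · refine CategoryTheory.Sheaf.hom_ext (NatTrans.ext (funext fun W => AddCommGrpCat.ext fun s => ?_))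
    have hn := congr($(congrArg (fun t : (toAbF X).obj (R.A n) ⟶
      (CohTop.push g.base).obj ((toAbF X').obj (R'.A (n + 1))) =>
        t.hom.app (op (U.ι ''ᵁ W.unop))) (hψ n)) s)
    refine (congrArg (QCohMod.res (R'.A (n + 1)) (resLE_image_le g U U' h W.unop)) hn).trans ?_
    exact QCohMod.res_app (R'.d n) _ _
  · refine CategoryTheory.Sheaf.hom_ext (NatTrans.ext (funext fun W => AddCommGrpCat.ext fun s => ?_))
    refine (congrArg (QCohMod.res (R'.A 0) (resLE_image_le g U U' h W.unop))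
      (hι (U.ι ''ᵁ W.unop) s)).trans ?_
    refine (QCohMod.res_app R'.ι _ _).trans ?_
    refine congrArg (R'.ι.app (U'.ι ''ᵁ (g₁ ⁻¹ᵁ W.unop))) ?_
    refine (QCohMod.res_app f₀ _ _).trans ?_
    refine congrArg (f₀.app (U'.ι ''ᵁ (g₁ ⁻¹ᵁ W.unop))) ?_
    refine Eq.trans ?_ (congrArg ((CohPull.pullOnIso g U U' h R.Y).hom.app (g₁ ⁻¹ᵁ W.unop))
      (congrArg (pullSec g₁ (R.Y.restrict U.ι))
        (QCohMod.res_self R.Y (show Γ(R.Y, U.ι ''ᵁ W.unop) from s))))
    exact (pullOnIso_pullSec g U U' h R.Y (show Γ(R.Y, U.ι ''ᵁ W.unop) from s) W.unop le_rfl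
      (resLE_image_le g U U' h W.unop)).symm
  · rw [toRestr_val, toRestr_val, hz]
    refine Eq.trans ?_ (congrArg (QCohMod.res (R'.A p) (resLE_image_le g U U' h ⊤))
      (congr($((ψ p).hom.naturality (homOfLE (Scheme.Opens.ι_image_top U).le).op) z.1).symm))
    exact (QCohMod.res_res (R'.A p) _ _ _).trans (QCohMod.res_res (R'.A p) _ _ _).symm

end Groth.CohCmpLib
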