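import Groth.Agent.CohCmpLib.ExactFunctor
import Groth.Agent.CohBase.RpushAffineLin
import Groth.Agent.CohBase.CechClass
import Groth.Prelude.Def_CohCmp

/-!
# Classes of cocycles over opens, and the connecting homomorphism
-/

universe u

open CategoryTheory Limits AlgebraicGeometry TopologicalSpace Opposite
open CategoryTheory.Abelian (Ext)
open Groth.CohBase
open Groth.QCohMod (resFun appₗ)

set_option maxHeartbeats 800000
set_option backward.isDefEq.respectTransparency false
set_option backward.defeqAttrib.useBackward true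
set_option backward.isDefEq.respectTransparency.types false

namespace Groth.CohCmpLib

variable {X : Scheme.{u}}

instance (U : X.Opens) : PreservesFiniteLimits (CohCmp.toAbOn X U) :=
  haveI := preservesFiniteLimits_restrictFunctor U.ι
  inferInstanceAs (PreservesFiniteLimits (Scheme.Modules.restrictFunctor U.ι ⋙ toAbF U.toScheme))

instance (U : X.Opens) : PreservesFiniteColimits (CohCmp.toAbOn X U) :=
  haveI : PreservesColimitsOfSize.{0, 0} (Scheme.Modules.restrictFunctor U.ι) :=
    (Scheme.Modules.restrictAdjunction U.ι).leftAdjoint_preservesColimits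
  inferInstanceAs (PreservesFiniteColimits (Scheme.Modules.restrictFunctor U.ι ⋙ toAbF U.toScheme))

/-- Restriction of a short exact sequence to an open is short exact on abelian sheaves. -/
theorem shortExact_toAbOn {S : ShortComplex X.Modules} (hS : S.ShortExact) (U : X.Opens) :
    (S.map (CohCmp.toAbOn X U)).ShortExact :=
  hS.map_of_exact _

/-- The short exact sequence at the start of a resolution. -/
noncomputable abbrev ses (R : Res X.Modules) : ShortComplex X.Modules :=
  ShortComplex.mk R.ι (cokernel.π R.ι) (cokernel.condition R.ι)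

/-- A cocycle on an open as a global cocycle of the restriction. -/
noncomputable def toRestr (R : Res X.Modules) (U : X.Opens) (p : ℕ) :
    R.Cyc U p →+ (R.restr U).Cyc ⊤ p where
  toFun z := ⟨(QCohMod.res (R.A p) (Scheme.Opens.ι_image_top U).le z.1 :),
    (show (QCohMod.res (R.A p) (Scheme.Opens.ι_image_top U).le z.1 : Γ(R.A p, U.ι ''ᵁ ⊤)) ∈
      R.Cyc (U.ι ''ᵁ ⊤) p from Res.res_mem_cyc (Scheme.Opens.ι_image_top U).le z.2)⟩
  map_zero' := Subtype.ext (map_zero (QCohMod.res (R.A p) _))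
  map_add' _ _ := Subtype.ext (map_add (QCohMod.res (R.A p) _) _ _)

lemma toRestr_val (R : Res X.Modules) (U : X.Opens) (p : ℕ) (z : R.Cyc U p) :
    (toRestr R U p z).1 =
      (QCohMod.res (R.A p) (Scheme.Opens.ι_image_top U).le z.1 : Γ(R.A p, U.ι ''ᵁ ⊤)) := rfl

lemma restrCyc_toRestr (R : Res X.Modules) (U : X.Opens) (p : ℕ) (z : R.Cyc U p) :
    Res.restrCyc R U p (toRestr R U p z) = z :=
  Subtype.ext ((QCohMod.res_res (R.A p) _ _ z.1).trans (QCohMod.res_self (R.A p) z.1))

lemma toRestr_surjective (R : Res X.Modules) (U : X.Opens) (p : ℕ) :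
    Function.Surjective (toRestr R U p) := fun w =>
  ⟨Res.restrCyc R U p w, Subtype.ext ((QCohMod.res_res (R.A p) _ _ _).trans
    (QCohMod.res_self (R.A p) (show Γ(R.A p, U.ι ''ᵁ ⊤) from w.1)))⟩

/-- The cohomology class of a cocycle on an open. -/
noncomputable def clsU (R : Res X.Modules) (U : X.Opens) (p : ℕ) :
    R.Cyc U p →+ Coh.HHon X R.Y U p :=
  (Res.clsTop (R.restr U) p).comp (toRestr R U p)

lemma clsU_apply (R : Res X.Modules) (U : X.Opens) (p : ℕ) (z : R.Cyc U p) :
    clsU R U p z = Res.clsTop (R.restr U) p (toRestr R U p z) := rfl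

/-- A cocycle of a positive degree, as a cocycle of the tail. -/
noncomputable def tailCyc (R : Res X.Modules) (U : X.Opens) (p : ℕ) (z : R.Cyc U (p + 1)) :
    R.tail.Cyc U p :=
  ⟨z.1, z.2⟩

/-- The class of a cocycle of positive degree is the connecting image of the class in the tail. -/
theorem clsU_succ (R : Res X.Modules) (U : X.Opens) (p : ℕ) (z : R.Cyc U (p + 1)) :
    clsU R U (p + 1) z =
      CohCmp.extδ (shortExact_toAbOn R.shortExact U) p (clsU R.tail U p (tailCyc R U p z)) := by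
  refine Eq.trans (congrArg (equivHTop (X := U.toScheme.toTopCat) _ (p + 1)).symm
    (Res.cls_succ_mapExact (CohCmp.toAbOn X U) (freeOpen (X := U.toScheme.toTopCat) ⊤) p R
      ⟨Res.toFree (R.restr U) ⊤ (p + 1) (toRestr R U (p + 1) z).1, ?_⟩
      ⟨Res.toFree (R.tail.restr U) ⊤ p (toRestr R.tail U p (tailCyc R U p z)).1, ?_⟩ rfl)) ?_
  · refine (Res.toFree_comp_d (R := R.restr U) ⊤ (p + 1) _).trans ?_
    rw [Res.mem_cyc.1 (toRestr R U (p + 1) z).2, map_zero]
  · refine (Res.toFree_comp_d (R := R.tail.restr U) ⊤ p _).trans ?_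
    rw [Res.mem_cyc.1 (toRestr R.tail U p (tailCyc R U p z)).2, map_zero]
  · exact (Ext.comp_assoc _ _ _ (zero_add p) rfl (by omega)).symm

/-- Naturality of classes. -/
theorem clsU_map {R R' : Res X.Modules} (φ : Res.Hom R R') (U : X.Opens) (p : ℕ) (z : R.Cyc U p)
    (z' : R'.Cyc U p) (h : z'.1 = (φ.f p).app U z.1) :
    clsU R' U p z' =
      CohPull.mapH ((Scheme.Modules.restrictFunctor U.ι).map φ.f₀) p (clsU R U p z) := by
  haveI := preservesFiniteLimits_restrictFunctor U.ι
  haveI : PreservesColimitsOfSize.{0, 0} (Scheme.Modules.restrictFunctor U.ι) :=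
    (Scheme.Modules.restrictAdjunction U.ι).leftAdjoint_preservesColimits
  refine Res.clsTop_map (φ.mapExact (Scheme.Modules.restrictFunctor U.ι)) p _ _ ?_
  rw [toRestr_val, toRestr_val, h]
  exact QCohMod.res_app (φ.f p) _ z.1

/-- Classes are linear over the functions on the open. -/
theorem clsU_smul (R : Res X.Modules) (U : X.Opens) (p : ℕ) (r : Γ(X, U)) (z : R.Cyc U p) :
    clsU R U p (r • z) =
      (show Γ(U.toScheme, ⊤) from U.topIso.inv r) • clsU R U p z := by
  rw [clsU_apply, clsU_apply, ← Res.clsTop_smul]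
  refine congrArg (Res.clsTop (R.restr U) p) (Subtype.ext ?_)
  rw [toRestr_val]
  refine (QCohMod.res_smul (R.A p) _ r z.1).trans ?_
  change _ = ((U.ι.appIso ⊤).inv (U.topIso.inv r)) •
    (QCohMod.res (R.A p) (Scheme.Opens.ι_image_top U).le z.1 : Γ(R.A p, U.ι ''ᵁ ⊤))
  congr 1
  simp only [Scheme.Opens.ι_appIso, Iso.refl_inv, Scheme.Opens.topIso_inv]
  rfl

/-- Every class comes from a flasque resolution. -/
theorem clsU_surjective {R : Res X.Modules} (hR : R.Flasque) (U : X.Opens) (p : ℕ) :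
    Function.Surjective (clsU R U p) := by
  intro x
  obtain ⟨q, rfl⟩ := (Res.hcEquivHH (Res.flasque_restr hR U) p).surjective x
  obtain ⟨w, rfl⟩ := Submodule.Quotient.mk_surjective _ q
  obtain ⟨z, rfl⟩ := toRestr_surjective R U p w
  exact ⟨z, rfl⟩

/-- A class vanishes exactly on coboundaries, for flasque resolutions. -/
theorem clsU_eq_zero_iff {R : Res X.Modules} (hR : R.Flasque) (U : X.Opens) (p : ℕ)
    (z : R.Cyc U p) : clsU R U p z = 0 ↔ z.1 ∈ R.Bd U p := by
  rw [clsU_apply, show Res.clsTop (R.restr U) p (toRestr R U p z) =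
    Res.hcEquivHH (Res.flasque_restr hR U) p (Submodule.Quotient.mk (toRestr R U p z)) from rfl]
  refine (LinearEquiv.map_eq_zero_iff _).trans ((Submodule.Quotient.mk_eq_zero _).trans
    (Submodule.mem_comap.trans ?_))
  refine (Res.restrCyc_mem_bd_iff U p (toRestr R U p z)).symm.trans ?_
  rw [restrCyc_toRestr]

lemma equiv₀_mk₀ {G : AbSheaf X.toTopCat} (ψ : constZ X.toTopCat ⟶ G) :
    Sheaf.H.equiv₀ G (T := (⊤ : X.Opens)) isTerminalTop (Ext.mk₀ ψ) = homConstZ G ψ := by
  have : Ext.addEquiv₀ (Ext.mk₀ ψ) = ψ := by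
    apply (Ext.mk₀_bijective _ _).1
    simp [Ext.addEquiv₀, Ext.mk₀_homEquiv₀_apply]
  simp only [Sheaf.H.equiv₀, AddEquiv.trans_apply, this]
  rfl

lemma homConstZ_inv_comp {G : AbSheaf X.toTopCat}
    (b : freeOpen (X := X.toTopCat) ⊤ ⟶ G) :
    homConstZ G ((freeOpenTopIso X.toTopCat).inv ≫ b) = homFreeOpen (X := X.toTopCat) ⊤ G b := by
  rw [homConstZ_comp, freeOpenTopIso]
  dsimp only
  rw [constToFreeTop, AddEquiv.apply_symm_apply]
  exact (homFreeOpen_comp (X := X.toTopCat) ⊤ b (𝟙 _)).symm.trans (by rw [Category.id_comp])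

/-- The class in degree zero as a map out of the constant sheaf. -/
lemma clsTop_zero_eq (R : Res X.Modules) (z : R.Cyc ⊤ 0) :
    Res.clsTop R 0 z = Ext.mk₀ ((freeOpenTopIso X.toTopCat).inv ≫
      Res.lift₀ (freeOpen (X := X.toTopCat) ⊤) R.ab
        ⟨Res.toFree R ⊤ 0 z.1, by
          change Res.toFree R ⊤ 0 z.1 ≫ R.ab.d 0 = 0
          rw [Res.toFree_comp_d, Res.mem_cyc.1 z.2, map_zero]⟩) := by
  rw [← Ext.mk₀_comp_mk₀]
  rfl

/-- Degree zero classes are sections. -/
theorem clsTop_zero (R : Res X.Modules) (z : R.Cyc ⊤ 0) :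
    R.ι.app ⊤ (Sheaf.H.equiv₀ (Coh.toAb R.Y) (T := (⊤ : X.Opens)) isTerminalTop
      (Res.clsTop R 0 z)) = z.1 := by
  rw [clsTop_zero_eq]
  refine (congrArg (R.ι.app ⊤) ((equiv₀_mk₀ _).trans (homConstZ_inv_comp _))).trans ?_
  refine (homFreeOpen_comp (X := X.toTopCat) ⊤ ((toAbF X).map R.ι) _).symm.trans ?_
  refine Eq.trans (congrArg (homFreeOpen (X := X.toTopCat) ⊤ _)
    (Res.lift₀_ι (freeOpen (X := X.toTopCat) ⊤) R.ab _)) ?_
  exact (homFreeOpen (X := X.toTopCat) ⊤ (R.ab.A 0)).apply_symm_apply z.1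

/-- Degree zero classes over an open are the classes of sections. -/
theorem clsU_zero (R : Res X.Modules) (U : X.Opens) (m : Γ(R.Y, U)) (z : R.Cyc U 0)
    (hz : R.ι.app U m = z.1) : clsU R U 0 z = CohPull.sectH0 R.Y U m := by
  apply (Sheaf.H.equiv₀ (Coh.toAb (R.Y.restrict U.ι)) (T := (⊤ : U.toScheme.Opens))
    isTerminalTop).injective
  apply Res.ι_app_injective (R := R.restr U) ⊤
  refine (clsTop_zero (R.restr U) _).trans ?_
  rw [toRestr_val, ← hz]
  refine (QCohMod.res_app R.ι _ m).trans (congrArg (R.ι.app _) ?_)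
  exact ((Sheaf.H.equiv₀ (Coh.toAb (R.Y.restrict U.ι)) (T := (⊤ : U.toScheme.Opens))
    isTerminalTop).apply_symm_apply _).symm

end Groth.CohCmpLib
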