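import Groth.Agent.CohCmpLib.PullMod
import Groth.Agent.CohBase.BaseChangeModel
import Groth.Agent.PicAux.Pullback

/-!
# Pullback of cohomology through Čech complexes

`CohPull.pullMod` along any morphism carries the class of a Čech cocycle to the class of its pullback;
for a change of the base ring it is the map `T(A) → T(A')` of the tensored Čech complex.
-/

universe u

open CategoryTheory Limits AlgebraicGeometry TopologicalSpace Opposite
open scoped TensorProduct
open Groth.CohBase
open Groth.QCohMod (res_app)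
open Groth.PicAux (pullSec pullSec_map res_pullSec)

set_option maxHeartbeats 800000
set_option backward.isDefEq.respectTransparency false
set_option backward.defeqAttrib.useBackward true
set_option backward.isDefEq.respectTransparency.types false

namespace Groth.CohCmpLib

section Cech

variable {X' X : Scheme.{u}} (g : X' ⟶ X) {ι : Type u} (U : ι → X.Opens) (F : X.Modules)

lemma cech_open_le {n : ℕ} (W : X.Opens) (x : Fin (n + 1) → ι) :
    g ⁻¹ᵁ W ⊓ tupOpen (fun i => g ⁻¹ᵁ U i) x ≤ g ⁻¹ᵁ (W ⊓ tupOpen U x) := by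
  rw [tupOpen_preimage]
  exact fun y hy => hy

/-- Pullback of Čech sections. -/
noncomputable def cechPull (n : ℕ) :
    (toAbF X).obj (csMod U F n) ⟶ (CohTop.push g.base).obj
      ((toAbF X').obj (csMod (fun i => g ⁻¹ᵁ U i) ((Scheme.Modules.pullback g).obj F) n)) :=
  ⟨{ app := fun W => AddCommGrpCat.ofHom (AddMonoidHom.mk'
      (fun (s : CsSec U F n W.unop) x => QCohMod.res _ (cech_open_le g U W.unop x)
        (pullSecHom g F (W.unop ⊓ tupOpen U x) (s x)))
      fun s t => funext fun x =>
        (congrArg (QCohMod.res _ _) (map_add (pullSecHom g F _) _ _)).trans (map_add _ _ _))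
     naturality := fun W W' i => by
      refine AddCommGrpCat.ext fun (s : CsSec U F n W.unop) => funext fun x => ?_
      change QCohMod.res _ (cech_open_le g U W'.unop x)
          (pullSec g F (QCohMod.res F (inf_le_inf_right _ (leOfHom i.unop)) (s x))) =
        QCohMod.res ((Scheme.Modules.pullback g).obj F)
          (inf_le_inf_right _ (g.preimage_mono (leOfHom i.unop)))
          (QCohMod.res _ (cech_open_le g U W.unop x) (pullSec g F (s x)))
      refine (congrArg (QCohMod.res _ (cech_open_le g U W'.unop x))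
        (res_pullSec g F (inf_le_inf_right (tupOpen U x) (leOfHom i.unop)) (s x)).symm).trans ?_
      exact (QCohMod.res_res _ _ _ _).trans (QCohMod.res_res _ _ _ _).symm }⟩

lemma cechPull_app (n : ℕ) (W : X.Opens) (s : CsSec U F n W) (x : Fin (n + 1) → ι) :
    (show CsSec (fun i => g ⁻¹ᵁ U i) ((Scheme.Modules.pullback g).obj F) n (g ⁻¹ᵁ W) from
      (cechPull g U F n).hom.app (op W) s) x =
      QCohMod.res _ (cech_open_le g U W x) (pullSec g F (s x)) := rfl

lemma cechPull_d (n : ℕ) :
    (toAbF X).map (csD U F n) ≫ cechPull g U F (n + 1) =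
      cechPull g U F n ≫ (CohTop.push g.base).map
        ((toAbF X').map (csD (fun i => g ⁻¹ᵁ U i) ((Scheme.Modules.pullback g).obj F) n)) := by
  refine CategoryTheory.Sheaf.hom_ext (NatTrans.ext (funext fun W => AddCommGrpCat.ext
    fun (s : CsSec U F n W.unop) => funext fun x => ?_))
  change QCohMod.res _ (cech_open_le g U W.unop x) (pullSecHom g F _ (csd U F n W.unop s x)) =
    csd (fun i => g ⁻¹ᵁ U i) ((Scheme.Modules.pullback g).obj F) n (g ⁻¹ᵁ W.unop)
      (fun y => QCohMod.res _ (cech_open_le g U W.unop y) (pullSec g F (s y))) x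
  rw [csd_apply, csd_apply, map_sum, map_sum]
  refine Finset.sum_congr rfl fun a _ => ?_
  rw [map_zsmul, map_zsmul]
  congr 1
  refine (congrArg (QCohMod.res _ (cech_open_le g U W.unop x))
    (res_pullSec g F (inf_le_inf_left W.unop (inter_comp (X := X.toTopCat) U x a.succAbove))
      (s (x ∘ a.succAbove))).symm).trans ?_
  exact (QCohMod.res_res _ _ _ _).trans (QCohMod.res_res _ _ _ _).symm

lemma cechPull_ι (hcov : ⨆ i, U i = ⊤) :
    (toAbF X).map (csι U F) ≫ cechPull g U F 0 = (toAbF X).map
      ((Scheme.Modules.pullbackPushforwardAdjunction g).homEquiv _ _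
        (csι (fun i => g ⁻¹ᵁ U i) ((Scheme.Modules.pullback g).obj F))) := by
  refine CategoryTheory.Sheaf.hom_ext (NatTrans.ext (funext fun W => AddCommGrpCat.ext
    fun (s : Γ(F, W.unop)) => funext fun x => ?_))
  rw [Adjunction.homEquiv_unit]
  change QCohMod.res _ (cech_open_le g U W.unop x) (pullSec g F (QCohMod.res F inf_le_left s)) =
    QCohMod.res ((Scheme.Modules.pullback g).obj F) inf_le_left (pullSec g F s)
  refine (congrArg (QCohMod.res _ (cech_open_le g U W.unop x))
    (res_pullSec g F (inf_le_left : W.unop ⊓ tupOpen U x ≤ W.unop) s).symm).trans ?_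
  exact QCohMod.res_res _ _ _ _

/-- The pullback of the class of a Čech cocycle. -/
theorem pullMod_cech (hcov : ⨆ i, U i = ⊤) (p : ℕ) (z : (cechRes U F hcov).Cyc ⊤ p)
    (z' : (cechRes (fun i => g ⁻¹ᵁ U i) ((Scheme.Modules.pullback g).obj F)
      (preimage_iSup_eq_top g hcov)).Cyc ⊤ p)
    (hz : z'.1 = (cechPull g U F p).hom.app (op ⊤) z.1) :
    CohPull.pullMod g F p (Res.clsTop (cechRes U F hcov) p z) =
      Res.clsTop (cechRes (fun i => g ⁻¹ᵁ U i) ((Scheme.Modules.pullback g).obj F)
        (preimage_iSup_eq_top g hcov)) p z' := by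
  refine Eq.trans ?_ (pullMod_clsTop g (cechRes U F hcov)
    (cechRes (fun i => g ⁻¹ᵁ U i) ((Scheme.Modules.pullback g).obj F) (preimage_iSup_eq_top g hcov))
    (𝟙 _) (cechPull g U F) (cechPull_d g U F) ?_ p z z' hz)
  · change _ = Sheaf.H.map ((toAbF X').map (𝟙 _)) p _
    rw [CategoryTheory.Functor.map_id]
    exact (Sheaf.H.map_id_apply _).symm
  · refine (cechPull_ι g U F hcov).trans ?_
    exact congrArg (fun t => (toAbF X).map
      ((Scheme.Modules.pullbackPushforwardAdjunction g).homEquiv _ _ t)) (Category.id_comp _).symm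

end Cech

section BC

variable {A A' : Type u} [CommRing A] [CommRing A'] [Algebra A A'] {X X' : Scheme.{u}}
  [X.Over (Spec (CommRingCat.of A))] [X'.Over (Spec (CommRingCat.of A'))] [X.IsSeparated]
  {g : X' ⟶ X} (hsq : IsBC (A := A) (A' := A') g) (F : X.Modules) [F.IsQuasicoherent]
  (G : GoodCover X)

lemma bcSec_lTensor (W : X.Opens) (w : secA A F W ⊗[A] A) :
    bcSec hsq F W ((Algebra.linearMap A A').lTensor (secA A F W) w) =
      pullSec g F ((selfModel A G.U F).Φ W w) := by
  have h : (TensorProduct.rid A (secA A F W)).symm (TensorProduct.rid A (secA A F W) w) = w :=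
    LinearEquiv.symm_apply_apply _ _
  conv_lhs => rw [← h]
  rw [TensorProduct.rid_symm_apply, LinearMap.lTensor_tmul, bcSec_tmul]
  change toSec A' _ (algebraMap A A' 1) • _ = _
  rw [map_one, map_one, one_smul]
  rfl

include hsq in
/-- Cohomology of a change of the base ring, with pullback of classes as the base change map. -/
theorem exists_bcEquiv_pullMod (p : ℕ) :
    ∃ e : (CohIII.TFun (cxA A G.U F) (p : ℤ)).obj (ModuleCat.of A A') ≃+
        Coh.HH X' ((Scheme.Modules.pullback g).obj F) p,
      (∀ (b : A') c, e ((CohIII.TFun (cxA A G.U F) (p : ℤ)).map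
        (ModuleCat.ofHom (LinearMap.mul A A' b)) c) = b • e c) ∧
      ∀ c, CohPull.pullMod g F p (selfLinIso A G F p c) =
        e ((CohIII.TFun (cxA A G.U F) (p : ℤ)).map
          (ModuleCat.ofHom (Algebra.linearMap A A')) c) := by
  have := QCohMod.isQCoh_pullback_obj g F
  obtain ⟨e, he⟩ := (bcModel hsq F G).exists_hhEquiv G.hcov (bc_affine hsq G)
    (bc_affine_inf hsq G) p
  refine ⟨e, fun b c => ?_, fun c => ?_⟩
  · obtain ⟨z, rfl⟩ := FlatCxBase.clsT_surjective (cxA A G.U F)
      (FlatCxBase.cochain_next (p : ℤ)) (ModuleCat.of A A') c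
    rw [FlatCxBase.TFun_map_clsT, he, he]
    exact SecModel.cycToHH_smul (bcModel hsq F G) G.hcov (LinearMap.mul A A' b)
      (Coh.toGlobal (X' ↘ Spec (CommRingCat.of A')) b) (fun W w => bcSec_smul hsq F W b w) p z _ rfl
  · obtain ⟨z, rfl⟩ := FlatCxBase.clsT_surjective (cxA A G.U F)
      (FlatCxBase.cochain_next (p : ℤ)) (ModuleCat.of A A) c
    rw [FlatCxBase.TFun_map_clsT, he]
    have hs : selfLinIso A G F p
        (FlatCxBase.clsT (cxA A G.U F) (FlatCxBase.cochain_next (p : ℤ)) (ModuleCat.of A A) z) =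
        (selfModel A G.U F).cycToHH G.hcov p z :=
      ((selfModel A G.U F).exists_hhEquiv G.hcov G.affine G.affine_inf p).choose_spec z
    rw [hs, SecModel.cycToHH_apply, SecModel.cycToHH_apply]
    refine pullMod_cech g G.U F G.hcov p _ _ ?_
    funext x
    refine Eq.trans ?_ (cechPull_app g G.U F p ⊤ ((selfModel A G.U F).toTop p z.1) x).symm
    change (bcModel hsq F G).toTop p ((Algebra.linearMap A A').lTensor _ z.1) x = _
    rw [SecModel.toTop_apply, ← LinearMap.comp_apply, LinearMap.rTensor_comp_lTensor,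
      ← LinearMap.lTensor_comp_rTensor, LinearMap.comp_apply]
    change QCohMod.res _ _ (bcSec hsq F (tupOpen G.U x) _) = _
    rw [bcSec_lTensor hsq F G]
    change _ = QCohMod.res _ _ (pullSec g F (QCohMod.res F _
      ((selfModel A G.U F).Φ (tupOpen G.U x) _)))
    refine Eq.trans ?_ (congrArg (QCohMod.res _ _) (res_pullSec g F _ _))
    exact (QCohMod.res_res _ _ _ _).symm

end BC

end Groth.CohCmpLib
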