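import Groth.Agent.CohCmpLib.PullOn
import Groth.Agent.CohBase.RpushSections
import Groth.Agent.CohFin.Rpush

/-!
# The comparison maps on classes of cocycles

For a resolution `R` and comparison data `E : CohCmp.SectCmp f Δ`, the composite `kappa` of the class map
and `ε` commutes with restriction and scalars; for injective resolutions it is locally surjective with
kernel the local coboundaries. Hence `ε` is linear, commutes with restriction, is locally bijective, and
over an affine open it is bijective for quasi-compact quasi-separated morphisms and quasi-coherent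
modules.
-/

universe u

open CategoryTheory Limits AlgebraicGeometry TopologicalSpace Opposite
open Groth.CohBase
open Groth.QCohMod (resFun res_app)

set_option maxHeartbeats 800000
set_option backward.isDefEq.respectTransparency false
set_option backward.defeqAttrib.useBackward true
set_option backward.isDefEq.respectTransparency.types false

namespace Groth.CohCmpLib

/-- In an exact sequence of modules a section killed by the second map comes locally from the first
module. -/
theorem exists_local_lift_of_exact {Y : Scheme.{u}} {T : ShortComplex Y.Modules} (hT : T.Exact)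
    {V : Y.Opens} (b : Γ(T.X₂, V)) (hb : T.g.app V b = 0) (y : Y) (hy : y ∈ V) :
    ∃ (W : Y.Opens) (h : W ≤ V) (a : Γ(T.X₁, W)),
      y ∈ W ∧ T.f.app W a = QCohMod.res T.X₂ h b := by
  obtain ⟨b', hb'⟩ := TopCat.Sheaf.sections_exact_of_left_exact (X := Y.toTopCat)
    (((ShortComplex.exact_of_f_is_kernel
      (ShortComplex.mk (kernel.ι T.g) T.g (kernel.condition T.g)) (kernelIsKernel T.g))).map (toAbF Y))
    (inferInstanceAs (Mono ((toAbF Y).map (kernel.ι T.g)))) b hb
  have : Epi (kernel.lift T.g T.f T.zero) := (ShortComplex.exact_iff_epi_kernel_lift T).1 hT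
  obtain ⟨W, h, a, hyW, ha⟩ := exists_local_preimage (kernel.lift T.g T.f T.zero) b' y hy
  refine ⟨W, h, a, hyW, ?_⟩
  rw [show T.f.app W a = (kernel.ι T.g).app W ((kernel.lift T.g T.f T.zero).app W a) from
    congr($(congrArg (fun t : T.X₁ ⟶ T.X₂ => t.app W) (kernel.lift_ι T.g T.f T.zero).symm) a), ha,
    ← res_app]
  exact congrArg (QCohMod.res T.X₂ h) hb'

variable {X Y : Scheme.{u}} {f : X ⟶ Y} [HasInjectiveResolutions X.Modules]
  {Δ : RDer.DerivedLES (Scheme.Modules.pushforward f)} (E : CohCmp.SectCmp f Δ)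

/-- The comparison map on classes of cocycles. -/
noncomputable def kappa (R : Res X.Modules) (V : Y.Opens) (p : ℕ) :
    R.Cyc (f ⁻¹ᵁ V) p →+ Γ((Coh.Rpush f p).obj R.Y, V) :=
  (E.ε V R.Y p).comp (clsU R (f ⁻¹ᵁ V) p)

lemma kappa_apply (R : Res X.Modules) (V : Y.Opens) (p : ℕ) (z : R.Cyc (f ⁻¹ᵁ V) p) :
    kappa E R V p z = E.ε V R.Y p (clsU R (f ⁻¹ᵁ V) p z) := rfl

lemma kappa_zero (R : Res X.Modules) (V : Y.Opens) (z : R.Cyc (f ⁻¹ᵁ V) 0)
    (m : Γ(R.Y, f ⁻¹ᵁ V)) (hm : R.ι.app (f ⁻¹ᵁ V) m = z.1) :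
    kappa E R V 0 z = ((Scheme.Modules.pushforward f).toRightDerivedZero.app R.Y).app V m := by
  rw [kappa_apply, clsU_zero R _ m z hm]
  exact E.zero V R.Y m

lemma kappa_succ (R : Res X.Modules) (V : Y.Opens) (p : ℕ) (z : R.Cyc (f ⁻¹ᵁ V) (p + 1)) :
    kappa E R V (p + 1) z =
      (Δ.δ (ses R) R.shortExact p (p + 1) rfl).app V
        (kappa E R.tail V p (tailCyc R _ p z)) := by
  rw [kappa_apply, clsU_succ, kappa_apply]
  exact E.delta V (ses R) R.shortExact (shortExact_toAbOn R.shortExact _) p _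

/-- The comparison commutes with restriction. -/
theorem kappa_res : ∀ (p : ℕ) (R : Res X.Modules) {V W : Y.Opens} (h : W ≤ V)
    (z : R.Cyc (f ⁻¹ᵁ V) p),
    QCohMod.res ((Coh.Rpush f p).obj R.Y) h (kappa E R V p z) =
      kappa E R W p (R.cycRes (f.preimage_mono h) p z)
  | 0, R, V, W, h, z => by
    obtain ⟨m, hm⟩ := Res.mem_cyc_zero_iff.1 z.2
    rw [kappa_zero E R V z m hm,
      kappa_zero E R W (R.cycRes (f.preimage_mono h) 0 z) (QCohMod.res R.Y (f.preimage_mono h) m)
        ((res_app R.ι (f.preimage_mono h) m).symm.trans (congrArg _ hm))]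
    exact res_app ((Scheme.Modules.pushforward f).toRightDerivedZero.app R.Y) h m
  | p + 1, R, V, W, h, z => by
    rw [kappa_succ, kappa_succ]
    refine (res_app (Δ.δ (ses R) R.shortExact p (p + 1) rfl) h _).trans (congrArg _ ?_)
    exact kappa_res p R.tail h (tailCyc R _ p z)

/-- The comparison is linear over the functions on the base. -/
theorem kappa_smul : ∀ (p : ℕ) (R : Res X.Modules) (V : Y.Opens) (r : Γ(Y, V))
    (z : R.Cyc (f ⁻¹ᵁ V) p),
    kappa E R V p ((f.app V).hom r • z) = r • kappa E R V p z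
  | 0, R, V, r, z => by
    obtain ⟨m, hm⟩ := Res.mem_cyc_zero_iff.1 z.2
    rw [kappa_zero E R V z m hm, kappa_zero E R V _ ((f.app V).hom r • m)
      ((R.ι.app_smul _ m).trans (congrArg _ hm))]
    exact ((Scheme.Modules.pushforward f).toRightDerivedZero.app R.Y).app_smul r m
  | p + 1, R, V, r, z => by
    rw [kappa_succ, kappa_succ]
    refine Eq.trans (congrArg _ ?_) ((Δ.δ (ses R) R.shortExact p (p + 1) rfl).app_smul r _)
    exact kappa_smul p R.tail V r (tailCyc R _ p z)

instance preservesFiniteLimits_pushforward : PreservesFiniteLimits (Scheme.Modules.pushforward f) :=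
  haveI : PreservesLimitsOfSize.{0, 0} (Scheme.Modules.pushforward f) :=
    (Scheme.Modules.pullbackPushforwardAdjunction f).rightAdjoint_preservesLimits
  inferInstance

lemma toRDZ_bijective (M : X.Modules) (V : Y.Opens) :
    Function.Bijective (((Scheme.Modules.pushforward f).toRightDerivedZero.app M).app V) := by
  let φ := (Scheme.Modules.pushforward f).toRightDerivedZero.app M
  refine ⟨fun a b h => ?_, fun t => ⟨(inv φ).app V t, ?_⟩⟩
  · have := congrArg ((inv φ).app V) h
    have e : ∀ x, (inv φ).app V (φ.app V x) = x := fun x =>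
      congr($(congrArg (fun t : _ ⟶ _ => Scheme.Modules.Hom.app t V) (IsIso.hom_inv_id φ)) x)
    rwa [e, e] at this
  · exact congr($(congrArg (fun t : _ ⟶ _ => Scheme.Modules.Hom.app t V) (IsIso.inv_hom_id φ)) t)

lemma eq_zero_of_isZero {M : Y.Modules} (h : IsZero M) {V : Y.Opens} (s : Γ(M, V)) : s = 0 :=
  congr($(congrArg (fun t : M ⟶ M => t.app V) (h.eq_of_src (𝟙 M) 0)) s)

lemma isZero_Rpush_injective (I : X.Modules) [Injective I] (p : ℕ) :
    IsZero ((Coh.Rpush f (p + 1)).obj I) :=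
  Functor.isZero_rightDerived_obj_injective_succ _ _ _

/-- For injective terms the comparison is locally surjective. -/
theorem kappa_exists_local : ∀ (p : ℕ) (R : Res X.Modules) (_ : ∀ n, Injective (R.A n))
    {V : Y.Opens} (t : Γ((Coh.Rpush f p).obj R.Y, V)) (y : Y) (_ : y ∈ V),
    ∃ (W : Y.Opens) (h : W ≤ V) (z : R.Cyc (f ⁻¹ᵁ W) p),
      y ∈ W ∧ kappa E R W p z = QCohMod.res _ h t
  | 0, R, _, V, t, y, hy => by
    obtain ⟨m, hm⟩ := (toRDZ_bijective (f := f) R.Y V).2 t
    refine ⟨V, le_rfl, ⟨R.ι.app _ m, Res.mem_cyc_zero_iff.2 ⟨m, rfl⟩⟩, hy, ?_⟩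
    rw [kappa_zero E R V _ m rfl, hm, QCohMod.res_self]
  | p + 1, R, hR, V, t, y, hy => by
    haveI := hR 0
    haveI : Epi (Δ.δ (ses R) R.shortExact p (p + 1) rfl) :=
      (Δ.exact₁ (ses R) R.shortExact p (p + 1) rfl).epi_f
        ((isZero_Rpush_injective (f := f) (R.A 0) p).eq_of_tgt _ _)
    obtain ⟨W₁, h₁, t', hy₁, ht'⟩ :=
      exists_local_preimage (Δ.δ (ses R) R.shortExact p (p + 1) rfl) t y hy
    obtain ⟨W, h, z, hyW, hz⟩ := kappa_exists_local p R.tail (fun n => hR (n + 1)) t' y hy₁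
    refine ⟨W, h.trans h₁, ⟨z.1, z.2⟩, hyW, ?_⟩
    rw [kappa_succ]
    refine (congrArg _ (show kappa E R.tail W p (tailCyc R _ p ⟨z.1, z.2⟩) = _ from hz)).trans ?_
    exact (res_app _ h t').symm.trans ((congrArg _ ht').trans (QCohMod.res_res _ _ _ _))

/-- For injective terms the kernel of the comparison consists of local coboundaries. -/
theorem kappa_local_bd : ∀ (p : ℕ) (R : Res X.Modules) (_ : ∀ n, Injective (R.A n))
    {V : Y.Opens} (z : R.Cyc (f ⁻¹ᵁ V) p) (_ : kappa E R V p z = 0) (y : Y) (_ : y ∈ V),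
    ∃ (W : Y.Opens) (h : W ≤ V), y ∈ W ∧
      QCohMod.res (R.A p) (f.preimage_mono h) z.1 ∈ R.Bd (f ⁻¹ᵁ W) p
  | 0, R, _, V, z, hz, y, hy => by
    obtain ⟨m, hm⟩ := Res.mem_cyc_zero_iff.1 z.2
    rw [kappa_zero E R V z m hm] at hz
    have : m = 0 := (toRDZ_bijective (f := f) R.Y V).1 (hz.trans (map_zero _).symm)
    exact ⟨V, le_rfl, hy, Res.mem_bd_zero.2 (by rw [← hm, this, map_zero, map_zero])⟩
  | p + 1, R, hR, V, z, hz, y, hy => by
    haveI := hR 0
    rw [kappa_succ] at hz
    obtain ⟨W₁, h₁, w, hy₁, hw⟩ :=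
      exists_local_lift_of_exact (Δ.exact₃ (ses R) R.shortExact p (p + 1) rfl) _ hz y hy
    change ((Coh.Rpush f p).map (cokernel.π R.ι)).app W₁ w = _ at hw
    replace hw := hw.trans (kappa_res E p R.tail h₁ (tailCyc R _ p z))
    cases p with
    | zero =>
      obtain ⟨a, rfl⟩ := (toRDZ_bijective (f := f) (R.A 0) W₁).2 w
      obtain ⟨m, hm⟩ := Res.mem_cyc_zero_iff.1 (R.tail.cycRes (f.preimage_mono h₁) 0
        (tailCyc R _ 0 z)).2
      rw [kappa_zero E R.tail W₁ _ m hm] at hw
      have hnat := congr($((Scheme.Modules.pushforward f).toRightDerivedZero.naturality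
        (cokernel.π R.ι)).app W₁ a)
      have hm' : m = (cokernel.π R.ι).app (f ⁻¹ᵁ W₁) a :=
        (toRDZ_bijective (f := f) _ W₁).1 (hw.symm.trans hnat.symm)
      refine ⟨W₁, h₁, hy₁, Res.mem_bd_succ.2 ⟨a, ?_⟩⟩
      refine Eq.trans ?_ hm
      rw [hm']
      exact congr($(congrArg (fun t : R.A 0 ⟶ R.A 1 => t.app (f ⁻¹ᵁ W₁))
        (cokernel.π_desc R.ι (R.d 0) R.isRes.zero₀).symm) a)
    | succ q =>
      rw [eq_zero_of_isZero (isZero_Rpush_injective (f := f) (R.A 0) q) w, map_zero] at hw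
      obtain ⟨W, h, hyW, hbd⟩ := kappa_local_bd (q + 1) R.tail (fun n => hR (n + 1))
        (R.tail.cycRes (f.preimage_mono h₁) _ (tailCyc R _ (q + 1) z)) hw.symm y hy₁
      refine ⟨W, h.trans h₁, hyW, ?_⟩
      obtain ⟨v, hv⟩ := Res.mem_bd_succ.1 hbd
      exact Res.mem_bd_succ.2 ⟨v, hv.trans (QCohMod.res_res _ _ _ _)⟩

/-- Coboundaries are killed. -/
theorem kappa_eq_zero_of_bd {R : Res X.Modules} (hR : R.Flasque) (p : ℕ) {V : Y.Opens}
    (z : R.Cyc (f ⁻¹ᵁ V) p) (hz : z.1 ∈ R.Bd (f ⁻¹ᵁ V) p) : kappa E R V p z = 0 := by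
  rw [kappa_apply, (clsU_eq_zero_iff hR _ p z).2 hz, map_zero]

variable {M : X.Modules} (I : InjectiveResolution M)

lemma injective_ofInjective (n : ℕ) : Injective ((Res.ofInjective I).A n) := I.injective n

/-- The vanishing locus of the comparison is that of the class of the homology. -/
theorem kappa_eq_zero_iff_thetaH {p : ℕ} {V : Y.Opens}
    (z : (Res.ofInjective I).Cyc (f ⁻¹ᵁ V) p) :
    kappa E (Res.ofInjective I) V p z = 0 ↔ θH f I p V z = 0 := by
  rw [θH_eq_zero_iff]
  constructor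
  · intro h y hy
    exact kappa_local_bd E p _ (injective_ofInjective I) z h y hy
  · intro h
    refine CohTwo.eq_of_local _ _ _ fun y hy => ?_
    obtain ⟨W, hW, hyW, hbd⟩ := h y hy
    refine ⟨W, hW, hyW, ?_⟩
    change QCohMod.res _ hW (kappa E _ V p z) = QCohMod.res _ hW 0
    rw [map_zero, kappa_res E p _ hW z]
    exact kappa_eq_zero_of_bd E (flasque_ofInjective I) p _ hbd

/-- Over an affine open every section comes from a cocycle. -/
theorem kappa_surjective_of_affine [QuasiCompact f] [QuasiSeparated f] [M.IsQuasicoherent]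
    {V : Y.Opens} (hV : IsAffineOpen V) (p : ℕ) :
    Function.Surjective (kappa E (Res.ofInjective I) V p) := by
  intro t
  choose W hW z hyW hz using fun y : V =>
    kappa_exists_local E p (Res.ofInjective I) (injective_ofInjective I) t y.1 y.2
  have hc : ∀ a b, QCohMod.res ((pushCx f I).homology p) (inf_le_left : W a ⊓ W b ≤ W a)
      (θH f I p (W a) (z a)) =
        QCohMod.res ((pushCx f I).homology p) (inf_le_right : W a ⊓ W b ≤ W b)
          (θH f I p (W b) (z b)) := fun a b => by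
    rw [θH_res, θH_res, ← sub_eq_zero, ← map_sub, ← kappa_eq_zero_iff_thetaH E, map_sub,
      sub_eq_zero]
    refine ((kappa_res E p _ (inf_le_left : W a ⊓ W b ≤ W a) (z a)).symm.trans ?_).trans
      (kappa_res E p _ (inf_le_right : W a ⊓ W b ≤ W b) (z b))
    rw [hz a, hz b, QCohMod.res_res, QCohMod.res_res]
  obtain ⟨s, hs⟩ := CohTwo.exists_glue ((pushCx f I).homology p) W hW
    (fun y hy => ⟨⟨y, hy⟩, hyW ⟨y, hy⟩⟩) (fun y => θH f I p (W y) (z y)) hc
  · obtain ⟨ζ, rfl⟩ := θH_surjective f I p hV s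
    refine ⟨ζ, CohTwo.eq_of_local _ _ _ fun y hy => ⟨W ⟨y, hy⟩, hW ⟨y, hy⟩, hyW ⟨y, hy⟩, ?_⟩⟩
    change QCohMod.res _ _ (kappa E _ V p ζ) = QCohMod.res _ _ t
    rw [kappa_res E p _ (hW ⟨y, hy⟩) ζ, ← hz ⟨y, hy⟩, ← sub_eq_zero, ← map_sub,
      kappa_eq_zero_iff_thetaH, map_sub, sub_eq_zero]
    exact (θH_res f I p (hW ⟨y, hy⟩) ζ).symm.trans (hs ⟨y, hy⟩)

/-- Over an affine open the comparison is bijective. -/
theorem eps_bijective_of_affine [QuasiCompact f] [QuasiSeparated f] (M : X.Modules)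
    [M.IsQuasicoherent] {V : Y.Opens} (hV : IsAffineOpen V) (p : ℕ) :
    Function.Bijective (E.ε V M p) := by
  let I := injectiveResolution M
  refine ⟨(injective_iff_map_eq_zero _).2 fun x hx => ?_, fun t => ?_⟩
  · obtain ⟨z, rfl⟩ := clsU_surjective (flasque_ofInjective I) (f ⁻¹ᵁ V) p x
    refine (clsU_eq_zero_iff (flasque_ofInjective I) _ p z).2 (θH_ker f I p hV z ?_)
    exact (kappa_eq_zero_iff_thetaH E I z).1 hx
  · obtain ⟨z, hz⟩ := kappa_surjective_of_affine E I hV p t
    exact ⟨_, hz⟩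

/-- The comparison maps are linear over the functions on the base. -/
theorem eps_smul (M : X.Modules) (V : Y.Opens) (p : ℕ) (r : Γ(Y, V))
    (x : Coh.HHon X M (f ⁻¹ᵁ V) p) :
    E.ε V M p ((show Γ((f ⁻¹ᵁ V).toScheme, ⊤) from (f ⁻¹ᵁ V).topIso.inv (f.app V r)) • x) =
      r • E.ε V M p x := by
  let I := injectiveResolution M
  obtain ⟨z, rfl⟩ := clsU_surjective (flasque_ofInjective I) (f ⁻¹ᵁ V) p x
  refine Eq.trans (congrArg (E.ε V M p) (clsU_smul (Res.ofInjective I) _ p (f.app V r) z).symm) ?_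
  exact kappa_smul E p (Res.ofInjective I) V r z

/-- The comparison is locally surjective. -/
theorem eps_exists_local (M : X.Modules) {V : Y.Opens} (p : ℕ)
    (t : Γ((Coh.Rpush f p).obj M, V)) (y : Y) (hy : y ∈ V) :
    ∃ (W : Y.Opens) (h : W ≤ V), y ∈ W ∧ ∃ x, E.ε W M p x = QCohMod.res _ h t := by
  obtain ⟨W, h, z, hyW, hz⟩ := kappa_exists_local E p (Res.ofInjective (injectiveResolution M))
    (injective_ofInjective _) t y hy
  exact ⟨W, h, hyW, _, hz⟩

/-- Restriction of classes between opens. -/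
theorem resLE_clsU (R : Res X.Modules) {U U' : X.Opens} (h : U' ≤ U) (p : ℕ) (z : R.Cyc U p) :
    CohPull.resLE R.Y h p (clsU R U p z) = clsU R U' p (R.cycRes h p z) := by
  refine pullOn_clsU (g := 𝟙 X) U U' (by rwa [Scheme.Hom.id_preimage]) R R
    ((Scheme.Modules.pullbackId X).hom.app R.Y) (fun _ => 𝟙 _) (fun n => ?_) (fun V m => ?_) p z _ ?_
  · exact (Category.comp_id _).trans (Category.id_comp _).symm
  · refine congrArg (R.ι.app V) ?_
    exact (pullbackId_pullSec R.Y m).symm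
  · rfl

/-- The comparison commutes with restriction. -/
theorem eps_res (M : X.Modules) {V W : Y.Opens} (h : W ≤ V) (p : ℕ)
    (x : Coh.HHon X M (f ⁻¹ᵁ V) p) :
    QCohMod.res ((Coh.Rpush f p).obj M) h (E.ε V M p x) =
      E.ε W M p (CohPull.resLE M (f.preimage_mono h) p x) := by
  let I := injectiveResolution M
  obtain ⟨z, rfl⟩ := clsU_surjective (flasque_ofInjective I) (f ⁻¹ᵁ V) p x
  refine (kappa_res E p (Res.ofInjective I) h z).trans ?_
  exact congrArg (E.ε W M p) (resLE_clsU (Res.ofInjective I) (f.preimage_mono h) p z).symm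

end Groth.CohCmpLib
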