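import Groth.Agent.Limits.TopDegreeFibre

/-!
# A right exact `T` is the tensor product with `T(A)`

The natural map `M ⊗ T(A) → T(M)` of a tensored Čech complex is bijective when `T` carries surjections
to surjections and is exact in the middle.
-/

universe u

open CategoryTheory AlgebraicGeometry
open scoped TensorProduct
open Groth.CohBase

set_option backward.isDefEq.respectTransparency false
set_option backward.defeqAttrib.useBackward true
set_option backward.isDefEq.respectTransparency.types false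

namespace Groth.CohCmpLib

variable {A : Type u} [CommRing A] {X : Scheme.{u}} [X.Over (Spec (CommRingCat.of A))]
  (G : GoodCover X) (F : X.Modules) (d : ℕ)

variable (A) in
/-- `T(A)`. -/
noncomputable abbrev TA : ModuleCat.{u} A :=
  (CohIII.TFun (cxA A G.U F) (d : ℤ)).obj (ModuleCat.of A A)

lemma TFun_toSpan_smul (M : ModuleCat.{u} A) (a : A) (b : M) (c : TA A G F d) :
    (CohIII.TFun (cxA A G.U F) (d : ℤ)).map
        (ModuleCat.ofHom (LinearMap.toSpanSingleton A M (a • b))) c =
      (CohIII.TFun (cxA A G.U F) (d : ℤ)).map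
        (ModuleCat.ofHom (LinearMap.toSpanSingleton A M b)) (a • c) := by
  obtain ⟨z, rfl⟩ := FlatCxBase.clsT_surjective (cxA A G.U F) (FlatCxBase.cochain_next (d : ℤ))
    (ModuleCat.of A A) c
  rw [← map_smul, FlatCxBase.TFun_map_clsT, FlatCxBase.TFun_map_clsT]
  congr 1
  apply Subtype.ext
  change (LinearMap.toSpanSingleton A M (a • b)).lTensor _ z.1 =
    (LinearMap.toSpanSingleton A M b).lTensor _ (a • z.1)
  rw [map_smul, ← LinearMap.smul_apply, ← LinearMap.lTensor_smul]
  congr 2
  exact LinearMap.ext_ring (by simp [LinearMap.toSpanSingleton_apply])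

lemma TFun_toSpan_add (M : ModuleCat.{u} A) (b b' : M) (c : TA A G F d) :
    (CohIII.TFun (cxA A G.U F) (d : ℤ)).map
        (ModuleCat.ofHom (LinearMap.toSpanSingleton A M (b + b'))) c =
      (CohIII.TFun (cxA A G.U F) (d : ℤ)).map
          (ModuleCat.ofHom (LinearMap.toSpanSingleton A M b)) c +
        (CohIII.TFun (cxA A G.U F) (d : ℤ)).map
          (ModuleCat.ofHom (LinearMap.toSpanSingleton A M b')) c := by
  obtain ⟨z, rfl⟩ := FlatCxBase.clsT_surjective (cxA A G.U F) (FlatCxBase.cochain_next (d : ℤ))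
    (ModuleCat.of A A) c
  rw [FlatCxBase.TFun_map_clsT, FlatCxBase.TFun_map_clsT, FlatCxBase.TFun_map_clsT, ← map_add]
  congr 1
  apply Subtype.ext
  change (LinearMap.toSpanSingleton A M (b + b')).lTensor _ z.1 =
    (LinearMap.toSpanSingleton A M b).lTensor _ z.1 +
      (LinearMap.toSpanSingleton A M b').lTensor _ z.1
  rw [← LinearMap.add_apply, ← LinearMap.lTensor_add]
  congr 2
  exact LinearMap.ext_ring (by simp [LinearMap.toSpanSingleton_apply])

lemma TFun_toSpan_one (a : A) (c : TA A G F d) :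
    (CohIII.TFun (cxA A G.U F) (d : ℤ)).map
        (ModuleCat.ofHom (LinearMap.toSpanSingleton A (ModuleCat.of A A) a)) c = a • c := by
  have h := TFun_toSpan_smul G F d (ModuleCat.of A A) a (1 : A) c
  rw [show (a • (1 : A)) = a from mul_one a] at h
  rw [h, show ModuleCat.ofHom (LinearMap.toSpanSingleton A (ModuleCat.of A A) (1 : A)) =
    𝟙 (ModuleCat.of A A) from ModuleCat.hom_ext (LinearMap.ext_ring (one_smul A (1 : A))),
    CategoryTheory.Functor.map_id]
  rfl

/-- The natural map `M ⊗ T(A) → T(M)`. -/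
noncomputable def etaT (M : ModuleCat.{u} A) :
    M ⊗[A] TA A G F d →+ (CohIII.TFun (cxA A G.U F) (d : ℤ)).obj M :=
  TensorProduct.liftAddHom
    (AddMonoidHom.mk' (fun b =>
        ((CohIII.TFun (cxA A G.U F) (d : ℤ)).map
          (ModuleCat.ofHom (LinearMap.toSpanSingleton A M b))).hom.toAddMonoidHom)
      fun b b' => AddMonoidHom.ext fun c => TFun_toSpan_add G F d M b b' c)
    fun a b c => TFun_toSpan_smul G F d M a b c

lemma etaT_tmul (M : ModuleCat.{u} A) (b : M) (c : TA A G F d) :
    etaT G F d M (b ⊗ₜ c) = (CohIII.TFun (cxA A G.U F) (d : ℤ)).map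
      (ModuleCat.ofHom (LinearMap.toSpanSingleton A M b)) c := rfl

lemma etaT_natural {M N : ModuleCat.{u} A} (f : M ⟶ N) (z : M ⊗[A] TA A G F d) :
    (CohIII.TFun (cxA A G.U F) (d : ℤ)).map f (etaT G F d M z) =
      etaT G F d N (f.hom.rTensor _ z) := by
  induction z using TensorProduct.induction_on with
  | zero => simp
  | tmul b c =>
    rw [LinearMap.rTensor_tmul, etaT_tmul, etaT_tmul, ← ModuleCat.comp_apply, ← Functor.map_comp]
    congr 2
    exact congrArg _ (ModuleCat.hom_ext (LinearMap.ext_ring (by simp)))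
  | add p q hp hq => simp only [map_add, hp, hq]

lemma etaT_self (z : A ⊗[A] TA A G F d) :
    etaT G F d (ModuleCat.of A A) z = TensorProduct.lid A (TA A G F d) z := by
  induction z using TensorProduct.induction_on with
  | zero => simp
  | tmul a c => rw [etaT_tmul, TensorProduct.lid_tmul]; exact TFun_toSpan_one G F d a c
  | add p q hp hq => simp only [map_add, hp, hq]

/-- The natural map is injective on free modules. -/
lemma etaT_free_eq_zero (ι : Type u) (z : (ι →₀ A) ⊗[A] TA A G F d)
    (hz : etaT G F d (ModuleCat.of A (ι →₀ A)) z = 0) : z = 0 := by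
  classical
  apply (TensorProduct.finsuppScalarLeft A (TA A G F d) ι).injective
  rw [map_zero]
  refine Finsupp.ext fun i => ?_
  rw [TensorProduct.finsuppScalarLeft_apply, Finsupp.zero_apply]
  refine (etaT_self G F d _).symm.trans ?_
  refine (etaT_natural G F d (ModuleCat.ofHom (Finsupp.lapply i) :
    ModuleCat.of A (ι →₀ A) ⟶ ModuleCat.of A A) z).symm.trans ?_
  rw [hz, map_zero]

/-- A right exact `T` is the tensor product with `T(A)`. -/
theorem etaT_bijective
    (hsur : ∀ (M₁ M₂ : ModuleCat.{u} A) (φ : M₁ ⟶ M₂), Function.Surjective φ.hom →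
      Function.Surjective ((CohIII.TFun (cxA A G.U F) (d : ℤ)).map φ))
    (hmid : ∀ (M₁ M₂ M₃ : ModuleCat.{u} A) (φ : M₁ ⟶ M₂) (ψ : M₂ ⟶ M₃),
      Function.Exact φ.hom ψ.hom → Function.Surjective ψ.hom →
      ∀ c, (CohIII.TFun (cxA A G.U F) (d : ℤ)).map ψ c = 0 →
        ∃ c₁, (CohIII.TFun (cxA A G.U F) (d : ℤ)).map φ c₁ = c)
    (M : ModuleCat.{u} A) : Function.Bijective (etaT G F d M) := by
  classical
  have hsurj : ∀ N : ModuleCat.{u} A, Function.Surjective (etaT G F d N) := fun N c => by
    refine AddSubgroup.closure_induction (p := fun c _ => ∃ z, etaT G F d N z = c) ?_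
      ⟨0, map_zero _⟩ (fun a b _ _ ⟨x, hx⟩ ⟨y, hy⟩ => ⟨x + y, by rw [map_add, hx, hy]⟩)
      (fun a _ ⟨x, hx⟩ => ⟨-x, by rw [map_neg, hx]⟩)
      (Groth.Limits.FibreVanishing.exists_span_TFun_of_surjective G F d hsur N c)
    rintro _ ⟨b, c₀, rfl⟩
    exact ⟨b ⊗ₜ c₀, rfl⟩
  refine ⟨(injective_iff_map_eq_zero _).2 fun z hz => ?_, hsurj M⟩
  let π : ModuleCat.of A (M →₀ A) ⟶ M :=
    ModuleCat.ofHom (Finsupp.linearCombination A (id : M → M))
  have hπ : Function.Surjective π.hom := fun b =>
    ⟨Finsupp.single b (1 : A), (Finsupp.linearCombination_single A _ _).trans (one_smul A b)⟩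
  let K : ModuleCat.{u} A := ModuleCat.of A (LinearMap.ker π.hom)
  let incl : K ⟶ ModuleCat.of A (M →₀ A) := ModuleCat.ofHom (LinearMap.ker π.hom).subtype
  obtain ⟨z', rfl⟩ := LinearMap.rTensor_surjective (TA A G F d) hπ z
  obtain ⟨c₁, hc₁⟩ := hmid K _ M incl π (LinearMap.exact_subtype_ker_map π.hom) hπ
    (etaT G F d _ z') ((etaT_natural G F d π z').trans hz)
  obtain ⟨w, rfl⟩ := hsurj K c₁
  have h0 : z' = incl.hom.rTensor _ w := by
    refine sub_eq_zero.1 (etaT_free_eq_zero G F d M _ ?_)
    rw [map_sub, ← etaT_natural G F d incl w, hc₁, sub_self]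
  rw [h0, ← LinearMap.rTensor_comp_apply,
    show π.hom.comp incl.hom = 0 from LinearMap.ext fun x => x.2]
  simp

end Groth.CohCmpLib
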