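import Groth.Agent.CohCmpLib.PullComp
import Groth.Agent.CohCmpLib.BCPull
import Groth.Agent.CohCmpLib.TensorT
import Groth.Agent.CohCmpLib.SectCmp
import Groth.Agent.Limits.DegreeZero
import Groth.Agent.OmegaSheaf.IsoLocal
import Groth.Agent.CohBase.FibreBC

/-!
# The base change maps of higher direct images

For a cartesian square and comparison data the base change map is an isomorphism as soon as, over
affine opens `V`, the natural map `A' ⊗_A T(A) → T(A')` of the Čech complex of `f⁻¹V` is bijective.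
-/

universe u

open CategoryTheory Limits AlgebraicGeometry TopologicalSpace Opposite
open scoped TensorProduct
open Groth.CohBase
open Groth.QCohMod (res_app sectionsAlg pullSecTensor pullSecTensor_tmul pullSecTensor_bijective)
open Groth.PicAux (pullSec res_pullSec)

set_option maxHeartbeats 800000
set_option backward.isDefEq.respectTransparency false
set_option backward.defeqAttrib.useBackward true
set_option backward.isDefEq.respectTransparency.types false

namespace Groth.CohCmpLib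

variable {X X' : Scheme.{u}}

/-- Restriction after pullback of classes between opens. -/
theorem resLE_pullOn (g : X' ⟶ X) (U : X.Opens) {U' U'' : X'.Opens} (h : U'' ≤ g ⁻¹ᵁ U)
    (h' : U' ≤ U'') (F : X.Modules) (p : ℕ) (x : Coh.HHon X F U p) :
    CohPull.resLE ((Scheme.Modules.pullback g).obj F) h' p (CohPull.pullOn g U U'' h F p x) =
      CohPull.pullOn g U U' (h'.trans h) F p x := by
  let M := (Scheme.Modules.pullback g).obj F
  have hid : U' ≤ (𝟙 X') ⁻¹ᵁ U'' := by rwa [Scheme.Hom.id_preimage]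
  change CohPull.mapH ((Scheme.Modules.restrictFunctor U'.ι).map
      ((Scheme.Modules.pullbackId X').hom.app M)) p
      (CohPull.mapH (CohPull.pullOnIso (𝟙 X') U'' U' hid M).hom p
        (CohPull.pullMod ((𝟙 X' : X' ⟶ X').resLE U'' U' hid) (M.restrict U''.ι) p
          (CohPull.mapH (CohPull.pullOnIso g U U'' h F).hom p
            (CohPull.pullMod (g.resLE U U'' h) (F.restrict U.ι) p x)))) =
    CohPull.mapH (CohPull.pullOnIso g U U' (h'.trans h) F).hom p
      (CohPull.pullMod (g.resLE U U' (h'.trans h)) (F.restrict U.ι) p x)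
  rw [← mapH_comp]
  have hc : (𝟙 X' : X' ⟶ X').resLE U'' U' hid ≫ g.resLE U U'' h =
      g.resLE U U' (h'.trans h) := by
    rw [← cancel_mono U.ι]
    simp [Scheme.Hom.resLE_comp_ι]
  refine pullMod_comp _ _ _ hc _ _ _ (fun W m => ?_) p x
  let a := (𝟙 X' : X' ⟶ X').resLE U'' U' hid
  let b := g.resLE U U'' h
  let m' : Γ(F, U.ι ''ᵁ W) := m
  let y : Γ(M, g ⁻¹ᵁ (U.ι ''ᵁ W)) := pullSec g F m'
  have eb : (CohPull.pullOnIso g U U'' h F).hom.app (b ⁻¹ᵁ W) (pullSec b (F.restrict U.ι) m) =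
      (QCohMod.res M (resLE_image_le g U U'' h W) y : Γ(M, U''.ι ''ᵁ (b ⁻¹ᵁ W))) := by
    refine Eq.trans ?_ (pullOnIso_pullSec g U U'' h F m' W le_rfl (resLE_image_le g U U'' h W))
    exact congrArg _ (congrArg (pullSec b (F.restrict U.ι)) (QCohMod.res_self F m').symm)
  have ec : (CohPull.pullOnIso g U U' (h'.trans h) F).hom.app (g.resLE U U' (h'.trans h) ⁻¹ᵁ W)
      (pullSec (g.resLE U U' (h'.trans h)) (F.restrict U.ι) m) =
      (QCohMod.res M (resLE_image_le g U U' (h'.trans h) W) y :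
        Γ(M, U'.ι ''ᵁ (g.resLE U U' (h'.trans h) ⁻¹ᵁ W))) := by
    refine Eq.trans ?_ (pullOnIso_pullSec g U U' (h'.trans h) F m' W le_rfl
      (resLE_image_le g U U' (h'.trans h) W))
    exact congrArg _ (congrArg (pullSec _ (F.restrict U.ι)) (QCohMod.res_self F m').symm)
  have le₂ : U'.ι ''ᵁ (a ⁻¹ᵁ b ⁻¹ᵁ W) ≤ g ⁻¹ᵁ (U.ι ''ᵁ W) := by
    refine le_trans (resLE_image_le (𝟙 X') U'' U' hid (b ⁻¹ᵁ W)) ?_
    rw [Scheme.Hom.id_preimage]
    exact resLE_image_le g U U'' h W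
  have ea : ((CohPull.pullOnIso (𝟙 X') U'' U' hid M).hom ≫
      (Scheme.Modules.restrictFunctor U'.ι).map ((Scheme.Modules.pullbackId X').hom.app M)).app
        (a ⁻¹ᵁ b ⁻¹ᵁ W) (pullSec a (M.restrict U''.ι)
          (QCohMod.res M (resLE_image_le g U U'' h W) y : Γ(M, U''.ι ''ᵁ (b ⁻¹ᵁ W)))) =
      (QCohMod.res M le₂ y : Γ(M, U'.ι ''ᵁ (a ⁻¹ᵁ b ⁻¹ᵁ W))) := by
    refine (congrArg (((Scheme.Modules.pullbackId X').hom.app M).app (U'.ι ''ᵁ (a ⁻¹ᵁ b ⁻¹ᵁ W)))
      (pullOnIso_pullSec (𝟙 X') U'' U' hid M y (b ⁻¹ᵁ W) (resLE_image_le g U U'' h W)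
        (le₂.trans_eq (Scheme.Hom.id_preimage _).symm))).trans ?_
    refine (res_app ((Scheme.Modules.pullbackId X').hom.app M) _ _).symm.trans ?_
    exact congrArg (QCohMod.res M le₂) (pullbackId_pullSec M y)
  rw [eb, ea]
  have hle : g.resLE U U' (h'.trans h) ⁻¹ᵁ W ≤ a ⁻¹ᵁ b ⁻¹ᵁ W := by
    rw [← Scheme.Hom.comp_preimage, hc]
  refine ec.trans ?_
  change _ = QCohMod.res M (U'.ι.image_mono hle)
    (QCohMod.res M le₂ y : Γ(M, U'.ι ''ᵁ (a ⁻¹ᵁ b ⁻¹ᵁ W)))
  exact (QCohMod.res_res M le₂ (U'.ι.image_mono hle) y).symm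

variable {S S' : Scheme.{u}} {f : X ⟶ S} {g : S' ⟶ S} {f' : X' ⟶ S'} {g' : X' ⟶ X}
  [HasInjectiveResolutions X.Modules] [HasInjectiveResolutions X'.Modules]
  {Δ : RDer.DerivedLES (Scheme.Modules.pushforward f)}
  {Δ' : RDer.DerivedLES (Scheme.Modules.pushforward f')}
  {E : CohCmp.SectCmp f Δ} {E' : CohCmp.SectCmp f' Δ'}

/-- The base change map on pulled back sections. -/
theorem bc_pullSec {w : g' ≫ f = f' ≫ g} (B : CohCmp.GenBC f g f' g' w E E') (p : ℕ) (F : X.Modules)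
    (V : S.Opens) (s : Γ((Coh.Rpush f p).obj F, V)) :
    (B.bc p F).app (g ⁻¹ᵁ V) (pullSec g _ s) = (B.φ p F).app V s := by
  have h : (Scheme.Modules.pullbackPushforwardAdjunction g).homEquiv _ _ (B.bc p F) = B.φ p F :=
    Equiv.apply_symm_apply _ _
  rw [Adjunction.homEquiv_unit] at h
  exact congr(($h).app V s)

/-- The base change map on the generators over an open of the source. -/
theorem bc_res_pullSec {w : g' ≫ f = f' ≫ g} (B : CohCmp.GenBC f g f' g' w E E') (p : ℕ)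
    (F : X.Modules) {V : S.Opens} {U' : S'.Opens} (e : U' ≤ g ⁻¹ᵁ V)
    (x : Coh.HHon X F (f ⁻¹ᵁ V) p) :
    (B.bc p F).app U' (QCohMod.res _ e (pullSec g _ (E.ε V F p x))) =
      E'.ε U' ((Scheme.Modules.pullback g').obj F) p (CohPull.pullOn g' (f ⁻¹ᵁ V) (f' ⁻¹ᵁ U')
        ((f'.preimage_mono e).trans (CohCmp.sqLE f g f' g' w V)) F p x) := by
  refine (res_app (B.bc p F) e _).symm.trans ?_
  rw [bc_pullSec, B.compat, eps_res E' _ e]
  exact congrArg (E'.ε U' _ p) (resLE_pullOn g' _ _ (f'.preimage_mono e) F p x)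

/-- The base change of the preimage of an affine open. -/
theorem isBC_resLE (h : IsPullback g' f' f g) {V : S.Opens} (hV : IsAffineOpen V) {U' : S'.Opens}
    (hU' : IsAffineOpen U') (e : U' ≤ g ⁻¹ᵁ V) (e' : f' ⁻¹ᵁ U' ≤ g' ⁻¹ᵁ (f ⁻¹ᵁ V)) :
    letI : Algebra Γ(S, V) Γ(S', U') := sectionsAlg g e
    letI : ((f ⁻¹ᵁ V : X.Opens) : Scheme.{u}).Over (Spec (CommRingCat.of Γ(S, V))) :=
      ⟨preimageToSpec f⟩
    letI : ((f' ⁻¹ᵁ U' : X'.Opens) : Scheme.{u}).Over (Spec (CommRingCat.of Γ(S', U'))) :=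
      ⟨preimageToSpec f'⟩
    IsBC (A := Γ(S, V)) (A' := Γ(S', U')) (g'.resLE (f ⁻¹ᵁ V) (f' ⁻¹ᵁ U') e') := by
  letI : Algebra Γ(S, V) Γ(S', U') := sectionsAlg g e
  letI : ((f ⁻¹ᵁ V : X.Opens) : Scheme.{u}).Over (Spec (CommRingCat.of Γ(S, V))) :=
    ⟨preimageToSpec f⟩
  letI : ((f' ⁻¹ᵁ U' : X'.Opens) : Scheme.{u}).Over (Spec (CommRingCat.of Γ(S', U'))) :=
    ⟨preimageToSpec f'⟩
  have hbig : IsPullback ((f' ⁻¹ᵁ U').ι ≫ g') (preimageToSpec f') f (hU'.fromSpec ≫ g) :=
    (isPullback_preimageToSpec f' hU').paste_horiz h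
  rw [← IsAffineOpen.SpecMap_appLE_fromSpec g hV hU' e,
    ← Scheme.Hom.resLE_comp_ι g' e'] at hbig
  refine hbig.of_right ?_ (isPullback_preimageToSpec f hV)
  change g'.resLE (f ⁻¹ᵁ V) (f' ⁻¹ᵁ U') e' ≫ preimageToSpec f = _
  rw [← cancel_mono hV.fromSpec, Category.assoc, Category.assoc,
    ← (isPullback_preimageToSpec f hV).w, ← Category.assoc]
  exact hbig.w

lemma isSeparated_preimage (f : X ⟶ S) [IsSeparated f] {V : S.Opens} (hV : IsAffineOpen V) :
    (f ⁻¹ᵁ V : X.Opens).toScheme.IsSeparated := by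
  haveI : IsSeparated (preimageToSpec f (V := V)) :=
    MorphismProperty.of_isPullback (isPullback_preimageToSpec f hV) ‹IsSeparated f›
  rw [Scheme.isSeparated_iff, show terminal.from (f ⁻¹ᵁ V : X.Opens).toScheme =
    preimageToSpec f (V := V) ≫ terminal.from _ from Subsingleton.elim _ _]
  infer_instance

/-- The base change map over a pair of affine opens is bijective when the Čech base change map is. -/
theorem bijective_bc_app [IsSeparated f] [QuasiCompact f] (h : IsPullback g' f' f g)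
    (B : CohCmp.GenBC f g f' g' h.w E E') (F : X.Modules) [F.IsQuasicoherent] (p : ℕ)
    {V : S.Opens} (hV : IsAffineOpen V) {U' : S'.Opens} (hU' : IsAffineOpen U') (e : U' ≤ g ⁻¹ᵁ V)
    (G : GoodCover (f ⁻¹ᵁ V : X.Opens).toScheme)
    (hη : letI : Algebra Γ(S, V) Γ(S', U') := sectionsAlg g e
      letI : ((f ⁻¹ᵁ V : X.Opens) : Scheme.{u}).Over (Spec (CommRingCat.of Γ(S, V))) :=
        ⟨preimageToSpec f⟩
      Function.Bijective (etaT (A := Γ(S, V)) G (F.restrict (f ⁻¹ᵁ V).ι) p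
        (ModuleCat.of Γ(S, V) Γ(S', U')))) :
    Function.Bijective ((B.bc p F).app U') := by
  haveI : IsSeparated f' := MorphismProperty.of_isPullback h ‹IsSeparated f›
  haveI : QuasiCompact f' := MorphismProperty.of_isPullback h ‹QuasiCompact f›
  haveI := QCohMod.isQCoh_pullback_obj g' F
  haveI := isQCoh_Rpush f (M := F) p
  haveI := isQCoh_Rpush f' (M := (Scheme.Modules.pullback g').obj F) p
  letI : Algebra Γ(S, V) Γ(S', U') := sectionsAlg g e
  letI : ((f ⁻¹ᵁ V : X.Opens) : Scheme.{u}).Over (Spec (CommRingCat.of Γ(S, V))) :=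
    ⟨preimageToSpec f⟩
  letI : ((f' ⁻¹ᵁ U' : X'.Opens) : Scheme.{u}).Over (Spec (CommRingCat.of Γ(S', U'))) :=
    ⟨preimageToSpec f'⟩
  haveI : (f ⁻¹ᵁ V : X.Opens).toScheme.IsSeparated := isSeparated_preimage f hV
  let F₀ := F.restrict (f ⁻¹ᵁ V).ι
  haveI : F₀.IsQuasicoherent := Scheme.Modules.isQuasicoherent_restrictFunctor _ F
  let F' := (Scheme.Modules.pullback g').obj F
  have e' : f' ⁻¹ᵁ U' ≤ g' ⁻¹ᵁ (f ⁻¹ᵁ V) :=
    (f'.preimage_mono e).trans (CohCmp.sqLE f g f' g' h.w V)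
  obtain ⟨ee, hee, hpull⟩ :=
    exists_bcEquiv_pullMod (isBC_resLE h hV hU' e e') F₀ G p
  let iso := CohPull.pullOnIso g' (f ⁻¹ᵁ V) (f' ⁻¹ᵁ U') e' F
  let M := (Coh.Rpush f p).obj F
  -- the comparison on `V`, linearly
  let L : TA Γ(S, V) G F₀ p ≃ₗ[Γ(S, V)] Γ(M, V) :=
    (selfLinIso Γ(S, V) G F₀ p).trans (LinearEquiv.ofBijective
      { toFun := E.ε V F p
        map_add' := map_add _
        map_smul' := fun a x => by
          refine Eq.trans (congrArg (E.ε V F p) ?_) (eps_smul E F V p a x)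
          exact congrArg (fun r : Γ((f ⁻¹ᵁ V).toScheme, ⊤) => r • x)
            (Groth.Limits.FibreVanishing.globalMap_preimage f a) }
      (eps_bijective_of_affine E F hV p))
  let Ψ : Γ(S', U') ⊗[Γ(S, V)] Γ(M, V) → Γ((Coh.Rpush f' p).obj F', U') := fun z =>
    E'.ε U' F' p (CohC3.hmap Γ(S', U') iso.hom p
      (ee (etaT G F₀ p (ModuleCat.of Γ(S, V) Γ(S', U'))
        (LinearEquiv.lTensor Γ(S', U') L.symm z))))
  have hΨ : Function.Bijective Ψ :=
    (eps_bijective_of_affine E' F' hU' p).comp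
      ((CohC3.hmap_bijective_of_isIso iso.hom p).comp (ee.bijective.comp
        (hη.comp (LinearEquiv.lTensor Γ(S', U') L.symm).bijective)))
  have key : ∀ z, (B.bc p F).app U' (pullSecTensor g M e z) = Ψ z := by
    intro z
    induction z using TensorProduct.induction_on with
    | zero => simp [Ψ]
    | add a b ha hb => simp only [map_add, Ψ] at ha hb ⊢; rw [ha, hb]
    | tmul a s =>
      obtain ⟨c, rfl⟩ := L.surjective s
      have hc : (ModuleCat.ofHom (Algebra.linearMap Γ(S, V) Γ(S', U')) :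
          ModuleCat.of Γ(S, V) Γ(S, V) ⟶ ModuleCat.of Γ(S, V) Γ(S', U')) ≫
          ModuleCat.ofHom (LinearMap.mul Γ(S, V) Γ(S', U') a) =
          ModuleCat.ofHom (LinearMap.toSpanSingleton Γ(S, V) Γ(S', U') a) :=
        ModuleCat.hom_ext (LinearMap.ext_ring (by simp))
      have hη' : ee (etaT G F₀ p (ModuleCat.of Γ(S, V) Γ(S', U'))
          (LinearEquiv.lTensor Γ(S', U') L.symm (a ⊗ₜ L c))) =
          a • CohPull.pullMod (g'.resLE (f ⁻¹ᵁ V) (f' ⁻¹ᵁ U') e') F₀ p
            (selfLinIso Γ(S, V) G F₀ p c) := by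
        rw [LinearEquiv.lTensor_tmul, L.symm_apply_apply, etaT_tmul, hpull, ← hee,
          ← ModuleCat.comp_apply, ← Functor.map_comp, hc]
      refine ((congrArg ((B.bc p F).app U') (pullSecTensor_tmul g M e a _)).trans
        ((B.bc p F).app_smul a _)).trans ?_
      refine (congrArg (a • ·) (bc_res_pullSec B p F e (selfLinIso Γ(S, V) G F₀ p c))).trans ?_
      refine Eq.trans ?_ (congrArg (fun t => E'.ε U' F' p (CohC3.hmap Γ(S', U') iso.hom p t))
        hη').symm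
      rw [LinearMap.map_smul]
      refine (eps_smul E' F' U' p a _).symm.trans (congrArg (E'.ε U' F' p) ?_)
      exact congrArg (fun r : Γ((f' ⁻¹ᵁ U').toScheme, ⊤) => r • _)
        (Groth.Limits.FibreVanishing.globalMap_preimage f' a).symm
  exact (Function.Bijective.of_comp_iff _ (pullSecTensor_bijective g M e hV hU')).1
    ((show ((B.bc p F).app U' : _ → _) ∘ pullSecTensor g M e = Ψ from funext key) ▸ hΨ)

/-- The base change map is an isomorphism when the Čech base change maps are bijective over the members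
of a cover by pairs of affine opens. -/
theorem isIso_bc_of_cover [IsSeparated f] [QuasiCompact f] (h : IsPullback g' f' f g)
    (B : CohCmp.GenBC f g f' g' h.w E E') (F : X.Modules) [F.IsQuasicoherent] (p : ℕ)
    (hη : ∀ y : S', ∃ (V : S.Opens) (hV : IsAffineOpen V) (U' : S'.Opens) (hU' : IsAffineOpen U')
      (e : U' ≤ g ⁻¹ᵁ V), y ∈ U' ∧
      letI : Algebra Γ(S, V) Γ(S', U') := sectionsAlg g e
      letI : ((f ⁻¹ᵁ V : X.Opens) : Scheme.{u}).Over (Spec (CommRingCat.of Γ(S, V))) :=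
        ⟨preimageToSpec f⟩
      ∀ (G : GoodCover (f ⁻¹ᵁ V : X.Opens).toScheme),
        Function.Bijective (etaT (A := Γ(S, V)) G (F.restrict (f ⁻¹ᵁ V).ι) p
          (ModuleCat.of Γ(S, V) Γ(S', U')))) :
    IsIso (B.bc p F) := by
  haveI : IsSeparated f' := MorphismProperty.of_isPullback h ‹IsSeparated f›
  haveI : QuasiCompact f' := MorphismProperty.of_isPullback h ‹QuasiCompact f›
  haveI := QCohMod.isQCoh_pullback_obj g' F
  haveI := isQCoh_Rpush f (M := F) p
  haveI := isQCoh_Rpush f' (M := (Scheme.Modules.pullback g').obj F) p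
  refine Groth.OmegaSheaf.isIso_of_affine_cover _ fun y => ?_
  obtain ⟨V, hV, U', hU', e, hy, hηy⟩ := hη y
  refine ⟨U', hU', hy, ?_⟩
  haveI : (f ⁻¹ᵁ V : X.Opens).toScheme.IsSeparated := isSeparated_preimage f hV
  haveI : CompactSpace (f ⁻¹ᵁ V : X.Opens).toScheme :=
    isCompact_iff_compactSpace.mp (f.isCompact_preimage hV.isCompact)
  obtain ⟨G⟩ := exists_goodCover (f ⁻¹ᵁ V : X.Opens).toScheme
  exact bijective_bc_app h B F p hV hU' e G (hηy G)

/-- The base change map is an isomorphism when the Čech base change maps are bijective. -/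
theorem isIso_bc [IsSeparated f] [QuasiCompact f] (h : IsPullback g' f' f g)
    (B : CohCmp.GenBC f g f' g' h.w E E') (F : X.Modules) [F.IsQuasicoherent] (p : ℕ)
    (hη : ∀ (V : S.Opens), IsAffineOpen V → ∀ (U' : S'.Opens), IsAffineOpen U' →
      ∀ (e : U' ≤ g ⁻¹ᵁ V),
      letI : Algebra Γ(S, V) Γ(S', U') := sectionsAlg g e
      letI : ((f ⁻¹ᵁ V : X.Opens) : Scheme.{u}).Over (Spec (CommRingCat.of Γ(S, V))) :=
        ⟨preimageToSpec f⟩
      ∀ (G : GoodCover (f ⁻¹ᵁ V : X.Opens).toScheme),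
        Function.Bijective (etaT (A := Γ(S, V)) G (F.restrict (f ⁻¹ᵁ V).ι) p
          (ModuleCat.of Γ(S, V) Γ(S', U')))) :
    IsIso (B.bc p F) := by
  refine isIso_bc_of_cover h B F p fun y => ?_
  obtain ⟨V, hV, hyV⟩ := QCohMod.exists_affine_mem (g y)
  obtain ⟨U', hU', hyU, e⟩ := exists_isAffineOpen_mem_and_subset (U := g ⁻¹ᵁ V) (x := y) hyV
  exact ⟨V, hV, U', hU', e, hyU, hη V hV U' hU' e⟩

end Groth.CohCmpLib
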