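import Groth.Agent.CohCmpLib.TensorT
import Groth.Agent.FlatCxBase.BoundedFlat
import Groth.Agent.FlatCxBase.Fibre

/-!
# Flat modules with flat cohomology: cohomology commutes with tensor products

If `F` is flat over `A` on a separated quasi-compact `A`-scheme and all `H^i(X, F)` are flat over `A`, the
natural map `M ⊗ T(A) → T(M)` of the Čech complex is bijective for every module `M`.
-/

universe u

open CategoryTheory CategoryTheory.Limits AlgebraicGeometry HomologicalComplex
open scoped TensorProduct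
open Groth.CohBase

set_option backward.isDefEq.respectTransparency false
set_option backward.defeqAttrib.useBackward true
set_option backward.isDefEq.respectTransparency.types false

namespace Groth.CohCmpLib

section Complex

open Groth.FlatCxBase

variable {A : Type u} [CommRing A] (C : CochainComplex (ModuleCat.{u} A) ℤ)
  [∀ i, Module.Flat A (C.X i)]

/-- The cokernels of the differentials of a flat complex with flat homology and eventually vanishing
tensored homology are flat. -/
theorem flat_coker_of_flat_homology (b : ℤ)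
    (hb : ∀ j, b < j → ∀ N : ModuleCat.{u} A, IsZero (CohIII.T C j N))
    (hH : ∀ j, Module.Flat A (C.homology j)) :
    ∀ i j : ℤ, i + 1 = j → Module.Flat A (Coker C i j) := by
  suffices ∀ n : ℕ, ∀ i j : ℤ, i + 1 = j → b < j + n → Module.Flat A (Coker C i j) from
    fun i j h => this (b + 1 - j).toNat i j h (by omega)
  intro n
  induction n with
  | zero =>
    intro i j hij hj
    refine (preservesMono_iff_flat C (i := i) (k := j + 1)
      ((cochain_prev j).trans (by omega)) (cochain_next j)).1 ⟨fun {M N} g _ => ⟨fun _ _ _ => ?_⟩⟩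
    exact (show IsZero ((CohIII.TFun C j).obj M) from hb j (by omega) M).eq_of_tgt _ _
  | succ n ih =>
    intro i j hij hj
    haveI := ih j (j + 1) rfl (by omega)
    haveI : Module.Flat A (LinearMap.ker (dBar C i j (j + 1))) :=
      Module.Flat.of_linearEquiv
        (homologyEquivKer C ((cochain_prev j).trans (by omega)) (cochain_next j)).symm
    have e : LinearMap.range (dBar C i j (j + 1)) = LinearMap.range (C.d j (j + 1)).hom :=
      Submodule.range_liftQ _ _ _
    haveI : Module.Flat A (LinearMap.range (dBar C i j (j + 1))) := by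
      rw [e]
      exact flat_range_of_flat_quot _
    exact flat_of_flat_ker_range (dBar C i j (j + 1))

/-- `T_j` is exact in the middle when it preserves surjections. -/
theorem exists_TFun_map_eq {j : ℤ}
    (hsur : ∀ (M₁ M₂ : ModuleCat.{u} A) (φ : M₁ ⟶ M₂), Function.Surjective φ.hom →
      Function.Surjective ((CohIII.TFun C j).map φ))
    {M₁ M₂ M₃ : ModuleCat.{u} A} (φ : M₁ ⟶ M₂) (ψ : M₂ ⟶ M₃)
    (hex : Function.Exact φ.hom ψ.hom) (hψ : Function.Surjective ψ.hom)
    (c : (CohIII.TFun C j).obj M₂) (hc : (CohIII.TFun C j).map ψ c = 0) :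
    ∃ c₁, (CohIII.TFun C j).map φ c₁ = c := by
  let K : ModuleCat.{u} A := ModuleCat.of A (LinearMap.range φ.hom)
  let φ₁ : M₁ ⟶ K := ModuleCat.ofHom φ.hom.rangeRestrict
  let φ₂ : K ⟶ M₂ := ModuleCat.ofHom (LinearMap.range φ.hom).subtype
  have hex₂ : Function.Exact φ₂.hom ψ.hom := by
    rw [LinearMap.exact_iff, hex.linearMap_ker_eq]
    exact (Submodule.range_subtype _).symm
  obtain ⟨x, rfl⟩ := clsT_surjective C (cochain_next j) M₂ c
  rw [TFun_map_clsT] at hc
  obtain ⟨w, hw⟩ := (clsT_eq_zero_iff C (cochain_next j) M₃ (cochain_prev j) _).1 hc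
  obtain ⟨w', rfl⟩ := LinearMap.lTensor_surjective (C.X (j - 1)) hψ w
  have h0 : ψ.hom.lTensor (C.X j) (x.1 - (C.d (j - 1) j).hom.rTensor M₂ w') = 0 := by
    rw [map_sub, sub_eq_zero]
    refine hw.symm.trans ?_
    rw [← LinearMap.comp_apply, ← LinearMap.comp_apply, LinearMap.rTensor_comp_lTensor,
      LinearMap.lTensor_comp_rTensor]
  obtain ⟨v, hv⟩ := (lTensor_exact (C.X j) hex₂ hψ _).1 h0
  have hv0 : (C.d j (j + 1)).hom.rTensor K v = 0 := by
    apply Module.Flat.lTensor_preserves_injective_linearMap (M := C.X (j + 1)) φ₂.hom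
      Subtype.val_injective
    rw [map_zero, ← LinearMap.comp_apply, LinearMap.lTensor_comp_rTensor,
      ← LinearMap.rTensor_comp_lTensor, LinearMap.comp_apply, hv, map_sub, x.2, rTensor_d_d,
      sub_zero]
  obtain ⟨c₁, hc₁⟩ := hsur M₁ K φ₁ φ.hom.surjective_rangeRestrict
    (clsT C (cochain_next j) K ⟨v, hv0⟩)
  refine ⟨c₁, ?_⟩
  rw [show φ = φ₁ ≫ φ₂ from rfl, Functor.map_comp, ModuleCat.comp_apply, hc₁, TFun_map_clsT,
    ← sub_eq_zero, ← map_sub, clsT_eq_zero_iff C (cochain_next j) M₂ (cochain_prev j)]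
  refine ⟨-w', ?_⟩
  change _ = φ₂.hom.lTensor (C.X j) v - x.1
  rw [hv, map_neg]
  abel

end Complex

variable {A : Type u} [CommRing A] {X : Scheme.{u}} [X.Over (Spec (CommRingCat.of A))]

/-- The tensored Čech complex computes `M ⊗ H(X, F)` when `F` and its cohomology are flat. -/
theorem etaT_bijective_of_flat [X.IsSeparated] [CompactSpace X] (G : GoodCover X) (F : X.Modules)
    [F.IsQuasicoherent] (hfl : FlatMod.IsFlatOver (X ↘ Spec (CommRingCat.of A)) F)
    (hH : ∀ i : ℕ, Module.Flat A (Coh.HH X F i)) (p : ℕ) (M : ModuleCat.{u} A) :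
    Function.Bijective (etaT G F p M) := by
  let C := cxA A G.U F
  haveI : ∀ i, Module.Flat A (C.X i) := flat_cxA A G.U F fun x => flat_secA A F hfl (G.affine x)
  obtain ⟨b, hb⟩ := exists_isZero_T A G F
  have hHj : ∀ j : ℤ, Module.Flat A (C.homology j) := by
    intro j
    rcases lt_or_ge j 0 with hj | hj
    · have := ModuleCat.subsingleton_of_isZero
        (HomologicalComplex.ExactAt.isZero_homology (K := C) (i := j) (by
          rw [HomologicalComplex.exactAt_iff]
          exact ShortComplex.exact_of_isZero_X₂ _ (isZero_cxA_of_neg A G.U F hj)))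
      infer_instance
    · obtain ⟨i, rfl⟩ : ∃ i : ℕ, j = i := ⟨j.toNat, by omega⟩
      have := hH i
      exact Module.Flat.of_linearEquiv
        ((FlatCxBase.TunitIso C (i : ℤ)).toLinearEquiv.symm ≪≫ₗ selfLinIso A G F i)
  have hsur : ∀ (M₁ M₂ : ModuleCat.{u} A) (φ : M₁ ⟶ M₂), Function.Surjective φ.hom →
      Function.Surjective ((CohIII.TFun C (p : ℤ)).map φ) := fun M₁ M₂ φ =>
    (FlatCxBase.preservesEpi_iff (CohIII.TFun C (p : ℤ))).1 ((FlatCxBase.preservesEpi_iff_flat C
    (h := (p : ℤ) - 1) (i := (p : ℤ)) (j := (p : ℤ) + 1) (FlatCxBase.cochain_prev _)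
    (FlatCxBase.cochain_next _)).2 (flat_coker_of_flat_homology C b hb hHj _ _ rfl)) φ
  exact etaT_bijective G F p hsur
    (fun M₁ M₂ M₃ φ ψ hex hψ c hc => exists_TFun_map_eq C hsur φ ψ hex hψ c hc) M

end Groth.CohCmpLib
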