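import Groth.Agent.CohCmpLib.GenBC
import Groth.Agent.CohCmpLib.FlatCech

/-!
# Transfer of the base change property along a change of the base ring

For a base change `X' = X ⊗_R R'` which is also `X ⊗_A A'` with `A' = A ⊗_R R'`, bijectivity of
`R' ⊗_R H(X) → H(X')` gives that of `A' ⊗_A H(X) → H(X')`.
-/

universe u

open CategoryTheory Limits AlgebraicGeometry TopologicalSpace Opposite
open scoped TensorProduct
open Groth.CohBase

set_option maxHeartbeats 800000
set_option backward.isDefEq.respectTransparency false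
set_option backward.defeqAttrib.useBackward true
set_option backward.isDefEq.respectTransparency.types false

namespace Groth.CohCmpLib

section Generators

variable {A A' : Type u} [CommRing A] [CommRing A'] [Algebra A A'] {X X' : Scheme.{u}}
  [X.Over (Spec (CommRingCat.of A))] [X'.Over (Spec (CommRingCat.of A'))]
  {g : X' ⟶ X} {F : X.Modules} [F.IsQuasicoherent] {G : GoodCover X} {p : ℕ}
  {e : (CohIII.TFun (cxA A G.U F) (p : ℤ)).obj (ModuleCat.of A A') ≃+
    Coh.HH X' ((Scheme.Modules.pullback g).obj F) p}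

/-- The base change map on generators. -/
theorem bcEquiv_etaT_tmul
    (he : ∀ (b : A') c, e ((CohIII.TFun (cxA A G.U F) (p : ℤ)).map
        (ModuleCat.ofHom (LinearMap.mul A A' b)) c) = b • e c)
    (hpull : ∀ c, CohPull.pullMod g F p (selfLinIso A G F p c) =
        e ((CohIII.TFun (cxA A G.U F) (p : ℤ)).map
          (ModuleCat.ofHom (Algebra.linearMap A A')) c)) (b : A') (x : Coh.HH X F p) :
    e (etaT G F p (ModuleCat.of A A') (b ⊗ₜ (selfLinIso A G F p).symm x)) =
      b • CohPull.pullMod g F p x := by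
  obtain ⟨c, rfl⟩ := (selfLinIso A G F p).surjective x
  have hc : (ModuleCat.ofHom (Algebra.linearMap A A') :
      ModuleCat.of A A ⟶ ModuleCat.of A A') ≫ ModuleCat.ofHom (LinearMap.mul A A' b) =
      ModuleCat.ofHom (LinearMap.toSpanSingleton A A' b) :=
    ModuleCat.hom_ext (LinearMap.ext_ring (by simp))
  rw [LinearEquiv.symm_apply_apply, etaT_tmul, hpull, ← he, ← ModuleCat.comp_apply,
    ← Functor.map_comp, hc]

end Generators

variable {R R' A A' : Type u} [CommRing R] [CommRing R'] [CommRing A] [CommRing A'] [Algebra R R']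
  [Algebra A A'] {X X' : Scheme.{u}} [X.Over (Spec (CommRingCat.of R))]
  [X.Over (Spec (CommRingCat.of A))] [X'.Over (Spec (CommRingCat.of R'))]
  [X'.Over (Spec (CommRingCat.of A'))] [X.IsSeparated]

open Groth.Limits.FibreVanishing (globalMap) in
/-- Transfer along a cocartesian square of rings. -/
theorem etaT_bijective_of_tower (φ : R →+* A) (β : R' →+* A')
    (hsq : ∀ r, β (algebraMap R R' r) = algebraMap A A' (φ r))
    (hgen : ∀ a : A', a ∈ Submodule.span A (Set.range β))
    (hφ : ∀ r, globalMap R X r = globalMap A X (φ r))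
    (hβ : ∀ r, globalMap R' X' r = globalMap A' X' (β r))
    {g : X' ⟶ X} (hR : IsBC (A := R) (A' := R') g) (hA : IsBC (A := A) (A' := A') g)
    (F : X.Modules) [F.IsQuasicoherent] (G : GoodCover X) (p : ℕ)
    (h : Function.Bijective (etaT G F p (ModuleCat.of R R'))) :
    Function.Bijective (etaT G F p (ModuleCat.of A A')) := by
  obtain ⟨eR, heR, hpR⟩ := exists_bcEquiv_pullMod hR F G p
  obtain ⟨eA, heA, hpA⟩ := exists_bcEquiv_pullMod hA F G p
  let H := Coh.HH X F p
  let LR := LinearEquiv.lTensor R' (selfLinIso R G F p).symm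
  let LA := LinearEquiv.lTensor A' (selfLinIso A G F p).symm
  let ΦR : R' ⊗[R] H → Coh.HH X' ((Scheme.Modules.pullback g).obj F) p :=
    fun z => eR (etaT G F p (ModuleCat.of R R') (LR z))
  let ΦA : A' ⊗[A] H → Coh.HH X' ((Scheme.Modules.pullback g).obj F) p :=
    fun z => eA (etaT G F p (ModuleCat.of A A') (LA z))
  have hbR : Function.Bijective ΦR := eR.bijective.comp (h.comp LR.bijective)
  suffices hbA : Function.Bijective ΦA by
    refine (Function.Bijective.of_comp_iff _ LA.bijective).1 ?_
    exact (Function.Bijective.of_comp_iff' eA.bijective _).1 hbA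
  have hs : ∀ (r : R) (x : H), r • x = φ r • x := fun r x =>
    congrArg (fun t : Γ(X, ⊤) => t • x) (hφ r)
  let q : R' ⊗[R] H →+ A' ⊗[A] H := TensorProduct.liftAddHom
    (AddMonoidHom.mk' (fun r' => (TensorProduct.mk A A' H (β r')).toAddMonoidHom)
      fun r' s' => AddMonoidHom.ext fun x => by
        simp [TensorProduct.add_tmul])
    fun r r' x => by
      change β (r • r') ⊗ₜ[A] x = β r' ⊗ₜ[A] (r • x)
      rw [hs, Algebra.smul_def, map_mul, hsq, ← Algebra.smul_def, TensorProduct.smul_tmul]
  have hq : ∀ z, ΦA (q z) = ΦR z := by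
    intro z
    induction z using TensorProduct.induction_on with
    | zero => simp [ΦA, ΦR]
    | add a b ha hb => simp only [map_add, ΦA, ΦR] at ha hb ⊢; rw [ha, hb]
    | tmul r' x =>
      change eA (etaT G F p _ (LA (β r' ⊗ₜ x))) = eR (etaT G F p _ (LR (r' ⊗ₜ x)))
      rw [LinearEquiv.lTensor_tmul, LinearEquiv.lTensor_tmul,
        bcEquiv_etaT_tmul heA hpA, bcEquiv_etaT_tmul heR hpR]
      exact (congrArg (fun t : Γ(X', ⊤) => t • CohPull.pullMod g F p x) (hβ r')).symm
  have hsurj : Function.Surjective q := by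
    intro w
    induction w using TensorProduct.induction_on with
    | zero => exact ⟨0, map_zero q⟩
    | add a b ha hb =>
      obtain ⟨u, rfl⟩ := ha
      obtain ⟨v, rfl⟩ := hb
      exact ⟨u + v, map_add q u v⟩
    | tmul a x =>
      have key : ∀ y : H, ∃ z, q z = a ⊗ₜ y := by
        refine Submodule.span_induction (p := fun a _ => ∀ y : H, ∃ z, q z = a ⊗ₜ y) ?_ ?_ ?_ ?_
          (hgen a)
        · rintro _ ⟨r', rfl⟩ y
          exact ⟨r' ⊗ₜ y, rfl⟩
        · exact fun y => ⟨0, by rw [map_zero, TensorProduct.zero_tmul]⟩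
        · intro a b _ _ ha hb y
          obtain ⟨u, hu⟩ := ha y
          obtain ⟨v, hv⟩ := hb y
          exact ⟨u + v, by rw [map_add, hu, hv, TensorProduct.add_tmul]⟩
        · intro c a _ ha y
          obtain ⟨u, hu⟩ := ha (c • y)
          exact ⟨u, by rw [hu, TensorProduct.smul_tmul]⟩
      exact key x
  constructor
  · intro w w' hww
    obtain ⟨z, rfl⟩ := hsurj w
    obtain ⟨z', rfl⟩ := hsurj w'
    rw [hq, hq] at hww
    rw [hbR.1 hww]
  · intro y
    obtain ⟨z, rfl⟩ := hbR.2 y
    exact ⟨q z, hq z⟩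

end Groth.CohCmpLib
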