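import Groth.Agent.CohBase.SecComplex
import Mathlib.Algebra.Homology.DerivedCategory.Ext.Map

/-!
# Classes of cocycles under exact functors
-/

universe w w' v v' u u'

open CategoryTheory Limits
open CategoryTheory.Abelian (Ext)

set_option backward.isDefEq.respectTransparency false
set_option backward.isDefEq.respectTransparency.types false

namespace Groth.CohBase.Res

open Groth.SiteCohomology.AcyclicRes (cocyc mem_cocyc)

variable {C : Type u} [Category.{v} C] [Abelian C] {D : Type u'} [Category.{v'} D] [Abelian D]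
  (G : C ⥤ D) [G.Additive] [PreservesFiniteLimits G] [PreservesFiniteColimits G]

/-- The tail of an image maps to the image of the tail. -/
noncomputable def tailComparison (R : Res C) : Hom (R.mapExact G).tail (R.tail.mapExact G) where
  f₀ := cokernelComparison R.ι G
  f n := 𝟙 _
  comm₀ := by
    refine (cancel_epi (cokernel.π (G.map R.ι))).1 ?_
    refine Eq.trans ?_ ((congrArg (· ≫ G.map (cokernel.desc R.ι (R.d 0) R.isRes.zero₀))
      (π_comp_cokernelComparison R.ι G)).symm.trans (Category.assoc _ _ _))
    rw [← G.map_comp, cokernel.π_desc]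
    exact (congrArg (cokernel.π (G.map R.ι) ≫ ·) (Category.comp_id _)).trans
      (cokernel.π_desc (G.map R.ι) (G.map (R.d 0)) _)
  comm n := (Category.comp_id _).trans (Category.id_comp _).symm

variable [HasExt.{w'} D] (Y : D)

/-- The class in an image is the class of the tail followed by the extension class. -/
theorem cls_succ_mapExact (p : ℕ) (R : Res C)
    (z : cocyc Y (R.mapExact G).A (R.mapExact G).d (p + 1))
    (z' : cocyc Y (R.tail.mapExact G).A (R.tail.mapExact G).d p) (hz : z'.1 = z.1) :
    cls Y (p + 1) (R.mapExact G) z =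
      (cls Y p (R.tail.mapExact G) z').comp (R.shortExact.map_of_exact G).extClass rfl := by
  rw [cls_succ, cls_map Y p (tailComparison G R) z z' (hz.trans (Category.comp_id _).symm)]
  let ψ : ShortComplex.mk (R.mapExact G).ι (cokernel.π (R.mapExact G).ι)
      (cokernel.condition (R.mapExact G).ι) ⟶
      (ShortComplex.mk R.ι (cokernel.π R.ι) (cokernel.condition R.ι)).map G :=
    { τ₁ := 𝟙 _
      τ₂ := 𝟙 _
      τ₃ := cokernelComparison R.ι G
      comm₁₂ := (Category.id_comp _).trans (Category.comp_id _).symm
      comm₂₃ := (Category.id_comp _).trans (π_comp_cokernelComparison R.ι G).symm }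
  have hn := ShortComplex.ShortExact.extClass_naturality (R.mapExact G).shortExact
    (R.shortExact.map_of_exact G) ψ
  refine Eq.trans ?_ (Ext.comp_assoc_of_second_deg_zero (cls Y p (R.mapExact G).tail z)
    (Ext.mk₀ (tailComparison G R).f₀) (R.shortExact.map_of_exact G).extClass _).symm
  change _ = Ext.comp (cls Y p (R.mapExact G).tail z)
    (Ext.comp (Ext.mk₀ ψ.τ₃) (R.shortExact.map_of_exact G).extClass (zero_add 1))
    (rfl : p + 1 = p + 1)
  rw [← hn]
  exact congrArg (fun t => Ext.comp (cls Y p (R.mapExact G).tail z) t (rfl : p + 1 = p + 1))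
    (Ext.comp_mk₀_id _).symm

variable [HasExt.{w} C]

omit Y in
/-- Exact functors carry classes to classes. -/
theorem mapExactFunctor_cls (Y₀ : C) : ∀ (p : ℕ) (R : Res C) (z : cocyc Y₀ R.A R.d p)
    (z' : cocyc (G.obj Y₀) (R.mapExact G).A (R.mapExact G).d p) (_ : z'.1 = G.map z.1),
    (cls Y₀ p R z).mapExactFunctor G = cls (G.obj Y₀) p (R.mapExact G) z'
  | 0, R, z, z', h => by
    rw [cls_zero, cls_zero, Ext.mapExactFunctor_mk₀]
    congr 1
    refine (cancel_mono (R.mapExact G).ι).1 ?_
    rw [lift₀_ι, h]
    exact (G.map_comp _ _).symm.trans (congrArg G.map (lift₀_ι Y₀ R z))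
  | p + 1, R, z, z', h => by
    let z'' : cocyc (G.obj Y₀) (R.tail.mapExact G).A (R.tail.mapExact G).d p := ⟨z'.1, z'.2⟩
    rw [cls_succ, Ext.mapExactFunctor_comp, Ext.mapExactFunctor_extClass,
      mapExactFunctor_cls Y₀ p R.tail z z'' h, cls_succ_mapExact G (G.obj Y₀) p R z' z'' rfl]

end Groth.CohBase.Res
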