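import Groth.Agent.CohCmpLib.PullOn
import Mathlib.CategoryTheory.Abelian.GrothendieckCategory.EnoughInjectives
import Mathlib.Algebra.Homology.DerivedCategory.Ext.EnoughInjectives

/-!
# Functoriality of pullback of cohomology
-/

universe u

open CategoryTheory Limits AlgebraicGeometry TopologicalSpace Opposite
open CategoryTheory.Abelian (Ext)
open Groth.CohBase
open Groth.PicAux (pullSec)

set_option maxHeartbeats 800000
set_option backward.isDefEq.respectTransparency false
set_option backward.defeqAttrib.useBackward true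
set_option backward.isDefEq.respectTransparency.types false

namespace Groth.CohCmpLib

section Top

variable {T' T : TopCat.{u}} (g : T' ⟶ T)

/-- Pullback of cohomology is natural. -/
theorem pullAb_map {M M' : AbSheaf T} (φ : M ⟶ M') (p : ℕ) (x : Sheaf.H M p) :
    CohPull.pullAb g M' p (Sheaf.H.map φ p x) =
      Sheaf.H.map ((CohPull.inv g).map φ) p (CohPull.pullAb g M p x) := by
  rw [Sheaf.H.map_apply, Sheaf.H.map_apply]
  change (Ext.mk₀ (CohPull.oneTo g)).comp ((x.comp (Ext.mk₀ φ) (add_zero p)).mapExactFunctor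
      (CohPull.inv g)) (zero_add p) =
    ((Ext.mk₀ (CohPull.oneTo g)).comp (x.mapExactFunctor (CohPull.inv g)) (zero_add p)).comp
      (Ext.mk₀ ((CohPull.inv g).map φ)) (add_zero p)
  rw [Ext.mapExactFunctor_comp, Ext.mapExactFunctor_mk₀]
  exact (Ext.comp_assoc_of_third_deg_zero _ _ _ _).symm

/-- Pullback of the class of a cocycle of a resolution of abelian sheaves. -/
theorem pullAb_cls (R : Res (AbSheaf T)) (p : ℕ)
    (z : Groth.SiteCohomology.AcyclicRes.cocyc (constZ T) R.A R.d p)
    (z' : Groth.SiteCohomology.AcyclicRes.cocyc (constZ T') (R.mapExact (CohPull.inv g)).A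
      (R.mapExact (CohPull.inv g)).d p)
    (hz : z'.1 = CohPull.oneTo g ≫ (CohPull.inv g).map z.1) :
    CohPull.pullAb g R.Y p (Res.cls (constZ T) p R z) =
      Res.cls (constZ T') p (R.mapExact (CohPull.inv g)) z' := by
  change (Ext.mk₀ (CohPull.oneTo g)).comp
    ((Res.cls (constZ T) p R z).mapExactFunctor (CohPull.inv g)) (zero_add p) = _
  have h1 : (CohPull.inv g).map z.1 ≫ (R.mapExact (CohPull.inv g)).d p = 0 := by
    refine ((CohPull.inv g).map_comp _ _).symm.trans ?_
    rw [show z.1 ≫ R.d p = 0 from z.2, Functor.map_zero]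
  rw [Res.mapExactFunctor_cls (CohPull.inv g) (constZ T) p R z ⟨(CohPull.inv g).map z.1, h1⟩ rfl]
  exact (Res.cls_precomp (CohPull.oneTo g) p (R.mapExact (CohPull.inv g)) _ _ hz).symm

variable {T'' : TopCat.{u}} (a : T'' ⟶ T')

/-- Pullback of cohomology is functorial. -/
theorem pullAb_comp {M : AbSheaf T} {N : AbSheaf T'} {P : AbSheaf T''}
    (φb : (CohPull.inv g).obj M ⟶ N) (φa : (CohPull.inv a).obj N ⟶ P)
    (φc : (CohPull.inv (a ≫ g)).obj M ⟶ P)
    (H : (CohPull.invPushAdj (a ≫ g)).homEquiv _ _ φc =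
      (CohPull.invPushAdj g).homEquiv _ _ φb ≫
        (CohTop.push g).map ((CohPull.invPushAdj a).homEquiv _ _ φa))
    (p : ℕ) (x : Sheaf.H M p) :
    Sheaf.H.map φa p (CohPull.pullAb a N p (Sheaf.H.map φb p (CohPull.pullAb g M p x))) =
      Sheaf.H.map φc p (CohPull.pullAb (a ≫ g) M p x) := by
  let I := injectiveResolution M
  let R : Res (AbSheaf T) := Res.ofInjective I
  obtain ⟨z, rfl⟩ := (Res.cls_spec (constZ T) p R (fun n q _ =>
    haveI : Injective (R.A n) := I.injective n
    subsingleton_of_forall_eq 0 fun e => Ext.eq_zero_of_injective e)).1 x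
  rw [pullAb_map a φb, ← Sheaf.H.map_comp_apply]
  let ψ := (CohPull.inv a).map φb ≫ φa
  have h1 : (CohPull.oneTo g ≫ (CohPull.inv g).map z.1) ≫ (R.mapExact (CohPull.inv g)).d p = 0 := by
    refine (Category.assoc _ _ _).trans ?_
    rw [show (CohPull.inv g).map z.1 ≫ (R.mapExact (CohPull.inv g)).d p = 0 from
      ((CohPull.inv g).map_comp _ _).symm.trans (by
        rw [show z.1 ≫ R.d p = 0 from z.2, Functor.map_zero]), comp_zero]
  let z₁ : Groth.SiteCohomology.AcyclicRes.cocyc (constZ T') (R.mapExact (CohPull.inv g)).A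
      (R.mapExact (CohPull.inv g)).d p := ⟨_, h1⟩
  have h2 : (CohPull.oneTo a ≫ (CohPull.inv a).map z₁.1) ≫
      ((R.mapExact (CohPull.inv g)).mapExact (CohPull.inv a)).d p = 0 := by
    refine (Category.assoc _ _ _).trans ?_
    rw [show (CohPull.inv a).map z₁.1 ≫
        ((R.mapExact (CohPull.inv g)).mapExact (CohPull.inv a)).d p = 0 from
      ((CohPull.inv a).map_comp _ _).symm.trans (by
        rw [show z₁.1 ≫ (R.mapExact (CohPull.inv g)).d p = 0 from h1, Functor.map_zero]), comp_zero]
  have h3 : (CohPull.oneTo (a ≫ g) ≫ (CohPull.inv (a ≫ g)).map z.1) ≫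
      (R.mapExact (CohPull.inv (a ≫ g))).d p = 0 := by
    refine (Category.assoc _ _ _).trans ?_
    rw [show (CohPull.inv (a ≫ g)).map z.1 ≫ (R.mapExact (CohPull.inv (a ≫ g))).d p = 0 from
      ((CohPull.inv (a ≫ g)).map_comp _ _).symm.trans (by
        rw [show z.1 ≫ R.d p = 0 from z.2, Functor.map_zero]), comp_zero]
  have e0 : CohPull.pullAb g M p (Res.cls (constZ T) p R z) =
      Res.cls (constZ T') p (R.mapExact (CohPull.inv g)) z₁ := pullAb_cls g R p z z₁ rfl
  have e1 : CohPull.pullAb a ((CohPull.inv g).obj M) p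
      (Res.cls (constZ T') p (R.mapExact (CohPull.inv g)) z₁) =
      Res.cls (constZ T'') p ((R.mapExact (CohPull.inv g)).mapExact (CohPull.inv a)) ⟨_, h2⟩ :=
    pullAb_cls a (R.mapExact (CohPull.inv g)) p z₁ ⟨_, h2⟩ rfl
  have e2 : CohPull.pullAb (a ≫ g) M p (Res.cls (constZ T) p R z) =
      Res.cls (constZ T'') p (R.mapExact (CohPull.inv (a ≫ g))) ⟨_, h3⟩ :=
    pullAb_cls (a ≫ g) R p z ⟨_, h3⟩ rfl
  rw [e0, e1, e2]
  -- the comparison of the two inverse images
  let unit₂ : ∀ (K : AbSheaf T),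
      K ⟶ (CohTop.push (a ≫ g)).obj ((CohPull.inv a).obj ((CohPull.inv g).obj K)) := fun K =>
    (CohPull.invPushAdj g).unit.app K ≫
      (CohTop.push g).map ((CohPull.invPushAdj a).unit.app ((CohPull.inv g).obj K))
  let cc : ∀ (K : AbSheaf T),
      (CohPull.inv (a ≫ g)).obj K ⟶ (CohPull.inv a).obj ((CohPull.inv g).obj K) := fun K =>
    ((CohPull.invPushAdj (a ≫ g)).homEquiv _ _).symm (unit₂ K)
  have ccnat : ∀ {K L : AbSheaf T} (φ : K ⟶ L),
      (CohPull.inv (a ≫ g)).map φ ≫ cc L = cc K ≫ (CohPull.inv a).map ((CohPull.inv g).map φ) := by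
    intro K L φ
    rw [← Adjunction.homEquiv_naturality_left_symm, ← Adjunction.homEquiv_naturality_right_symm]
    congr 1
    change φ ≫ (CohPull.invPushAdj g).unit.app L ≫
        (CohTop.push g).map ((CohPull.invPushAdj a).unit.app ((CohPull.inv g).obj L)) =
      ((CohPull.invPushAdj g).unit.app K ≫
        (CohTop.push g).map ((CohPull.invPushAdj a).unit.app ((CohPull.inv g).obj K))) ≫
          (CohTop.push g).map ((CohTop.push a).map ((CohPull.inv a).map ((CohPull.inv g).map φ)))
    have u1 : φ ≫ (CohPull.invPushAdj g).unit.app L =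
        (CohPull.invPushAdj g).unit.app K ≫ (CohTop.push g).map ((CohPull.inv g).map φ) :=
      (CohPull.invPushAdj g).unit.naturality φ
    have u2 : (CohPull.inv g).map φ ≫ (CohPull.invPushAdj a).unit.app ((CohPull.inv g).obj L) =
        (CohPull.invPushAdj a).unit.app ((CohPull.inv g).obj K) ≫
          (CohTop.push a).map ((CohPull.inv a).map ((CohPull.inv g).map φ)) :=
      (CohPull.invPushAdj a).unit.naturality ((CohPull.inv g).map φ)
    rw [← Category.assoc, u1, Category.assoc, Category.assoc, ← Functor.map_comp,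
      ← Functor.map_comp, u2]
  let Φ : Res.Hom (R.mapExact (CohPull.inv (a ≫ g)))
      ((R.mapExact (CohPull.inv g)).mapExact (CohPull.inv a)) :=
    { f₀ := cc M
      f := fun n => cc (R.A n)
      comm₀ := ccnat R.ι
      comm := fun n => ccnat (R.d n) }
  have ez := Res.cls_map (constZ T'') p Φ ⟨_, h3⟩ ⟨_, h2⟩ ?_
  · erw [ez, Sheaf.H.map_apply, Sheaf.H.map_apply]
    refine (Ext.comp_assoc_of_second_deg_zero (Res.cls (constZ T'') p
      (R.mapExact (CohPull.inv (a ≫ g))) ⟨_, h3⟩) _ _ _).trans ?_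
    rw [Ext.mk₀_comp_mk₀]
    congr 2
    apply ((CohPull.invPushAdj (a ≫ g)).homEquiv _ _).injective
    refine Eq.trans ?_ H.symm
    refine ((CohPull.invPushAdj (a ≫ g)).homEquiv_naturality_right (cc M) _).trans ?_
    refine (congrArg (· ≫ (CohTop.push (a ≫ g)).map _)
      (((CohPull.invPushAdj (a ≫ g)).homEquiv _ _).apply_symm_apply (unit₂ M))).trans ?_
    rw [Adjunction.homEquiv_unit, Adjunction.homEquiv_unit]
    change ((CohPull.invPushAdj g).unit.app M ≫
        (CohTop.push g).map ((CohPull.invPushAdj a).unit.app ((CohPull.inv g).obj M))) ≫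
        (CohTop.push g).map ((CohTop.push a).map ((CohPull.inv a).map φb ≫ φa)) =
      ((CohPull.invPushAdj g).unit.app M ≫ (CohTop.push g).map φb) ≫
        (CohTop.push g).map ((CohPull.invPushAdj a).unit.app N ≫ (CohTop.push a).map φa)
    have u3 : φb ≫ (CohPull.invPushAdj a).unit.app N =
        (CohPull.invPushAdj a).unit.app ((CohPull.inv g).obj M) ≫
          (CohTop.push a).map ((CohPull.inv a).map φb) :=
      (CohPull.invPushAdj a).unit.naturality φb
    rw [Category.assoc, Category.assoc, ← Functor.map_comp, ← Functor.map_comp, ← Category.assoc φb,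
      u3, Category.assoc, ← Functor.map_comp]
  · change CohPull.oneTo a ≫ (CohPull.inv a).map (CohPull.oneTo g ≫ (CohPull.inv g).map z.1) =
      (CohPull.oneTo (a ≫ g) ≫ (CohPull.inv (a ≫ g)).map z.1) ≫ cc (R.A p)
    apply (homConstZ _).injective
    rw [Category.assoc, ← Adjunction.homEquiv_naturality_left_symm,
      homConstZ_oneTo_comp (a ≫ g) (z.1 ≫ unit₂ (R.A p))]
    have ea : (CohPull.inv a).map (CohPull.oneTo g ≫ (CohPull.inv g).map z.1) =
        ((CohPull.invPushAdj a).homEquiv _ _).symm ((CohPull.oneTo g ≫ (CohPull.inv g).map z.1) ≫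
          (CohPull.invPushAdj a).unit.app _) := by
      rw [Adjunction.homEquiv_naturality_left_symm, ← Adjunction.homEquiv_id, Equiv.symm_apply_apply]
      exact (Category.comp_id _).symm
    rw [ea, homConstZ_oneTo_comp, Category.assoc]
    have eb : (CohPull.inv g).map z.1 ≫
        (CohPull.invPushAdj a).unit.app ((CohPull.inv g).obj (R.A p)) =
        ((CohPull.invPushAdj g).homEquiv (constZ T) ((CohTop.push a).obj
          ((CohPull.inv a).obj ((CohPull.inv g).obj (R.A p))))).symm
          (show constZ T ⟶ (CohTop.push g).obj ((CohTop.push a).obj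
              ((CohPull.inv a).obj ((CohPull.inv g).obj (R.A p)))) from z.1 ≫ unit₂ (R.A p)) := by
      apply ((CohPull.invPushAdj g).homEquiv _ _).injective
      refine Eq.trans ?_ (Equiv.apply_symm_apply _ _).symm
      refine ((CohPull.invPushAdj g).homEquiv_naturality_left _ _).trans ?_
      rw [Adjunction.homEquiv_unit]
    erw [eb, homConstZ_oneTo_comp]
    rfl

end Top

variable {X'' X' X : Scheme.{u}}

/-- A composite with `theta` is the transpose of the map of sections. -/
theorem homEquiv_theta (g : X' ⟶ X) {M : X.Modules} {N : X'.Modules}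
    (ψ : (Scheme.Modules.pullback g).obj M ⟶ N) :
    (CohPull.invPushAdj g.base).homEquiv _ _ (CohPull.theta g M ≫ (toAbF X').map ψ) =
      (toAbF X).map ((Scheme.Modules.pullbackPushforwardAdjunction g).homEquiv _ _ ψ) := by
  refine ((CohPull.invPushAdj g.base).homEquiv_naturality_right (CohPull.theta g M)
    ((toAbF X').map ψ)).trans ?_
  rw [Adjunction.homEquiv_unit (Scheme.Modules.pullbackPushforwardAdjunction g), Functor.map_comp]
  exact congrArg (· ≫ (CohTop.push g.base).map ((toAbF X').map ψ))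
    (((CohPull.invPushAdj g.base).homEquiv _ _).apply_symm_apply _)

/-- Pullback of cohomology of modules is functorial. -/
theorem pullMod_comp (a : X'' ⟶ X') (b : X' ⟶ X) (c : X'' ⟶ X) (e : a ≫ b = c)
    {M : X.Modules} {N : X'.Modules} {P : X''.Modules}
    (ψb : (Scheme.Modules.pullback b).obj M ⟶ N) (ψa : (Scheme.Modules.pullback a).obj N ⟶ P)
    (ψc : (Scheme.Modules.pullback c).obj M ⟶ P)
    (H : ∀ (V : X.Opens) (m : Γ(M, V)), ψc.app (c ⁻¹ᵁ V) (pullSec c M m) =
      QCohMod.res P (by subst e; exact le_rfl)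
        (ψa.app (a ⁻¹ᵁ b ⁻¹ᵁ V) (pullSec a N (ψb.app (b ⁻¹ᵁ V) (pullSec b M m)))))
    (p : ℕ) (x : Coh.HH X M p) :
    CohPull.mapH ψa p (CohPull.pullMod a N p (CohPull.mapH ψb p (CohPull.pullMod b M p x))) =
      CohPull.mapH ψc p (CohPull.pullMod c M p x) := by
  subst e
  have key : ∀ {Z Z' : Scheme.{u}} (g : Z' ⟶ Z) (K : Z.Modules) {L : Z'.Modules}
      (ψ : (Scheme.Modules.pullback g).obj K ⟶ L) (y : Coh.HH Z K p),
      CohPull.mapH ψ p (CohPull.pullMod g K p y) =
        Sheaf.H.map (CohPull.theta g K ≫ (toAbF Z').map ψ) p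
          (CohPull.pullAb g.base (Coh.toAb K) p y) := fun g K L ψ y =>
    (Sheaf.H.map_comp_apply _ _ _).symm
  rw [key, key, key]
  refine pullAb_comp b.base a.base _ _ _ ?_ p x
  erw [homEquiv_theta (a ≫ b) ψc, homEquiv_theta b ψb, homEquiv_theta a ψa]
  refine CategoryTheory.Sheaf.hom_ext (NatTrans.ext (funext fun V => AddCommGrpCat.ext
    fun (m : Γ(M, V.unop)) => ?_))
  rw [Adjunction.homEquiv_unit, Adjunction.homEquiv_unit, Adjunction.homEquiv_unit]
  exact (H V.unop m).trans (QCohMod.res_self _ _)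

end Groth.CohCmpLib
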