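import Groth.Agent.CohCmpLib.Cls

/-!
# Pullback of cohomology on classes of cocycles
-/

universe u

open CategoryTheory Limits AlgebraicGeometry TopologicalSpace Opposite
open CategoryTheory.Abelian (Ext)
open Groth.CohBase

set_option maxHeartbeats 800000
set_option backward.isDefEq.respectTransparency false
set_option backward.defeqAttrib.useBackward true
set_option backward.isDefEq.respectTransparency.types false

namespace Groth.CohCmpLib

/-- The canonical map of constant sheaves followed by a transposed map, on the section `1`. -/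
lemma homConstZ_oneTo_comp {X' X : TopCat.{u}} (g : X' ⟶ X) {B : AbSheaf X'}
    (b : constZ X ⟶ (CohTop.push g).obj B) :
    homConstZ B (CohPull.oneTo g ≫ ((CohPull.invPushAdj g).homEquiv _ _).symm b) =
      homConstZ ((CohTop.push g).obj B) b := by
  have e : (CohPull.adjZ X').homEquiv _ _
      (CohPull.oneTo g ≫ ((CohPull.invPushAdj g).homEquiv _ _).symm b) =
      (CohPull.adjZ X).homEquiv _ _ b := by
    rw [Adjunction.homEquiv_naturality_right, CohPull.oneTo, Equiv.apply_symm_apply]
    have h0 : (CohPull.adjZ X).homEquiv _ _ b =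
        CohPull.oneSec X ≫
          ((sheafSections (Opens.grothendieckTopology X) AddCommGrpCat.{u}).obj (op ⊤)).map b := by
      rw [CohPull.oneSec, ← Adjunction.homEquiv_naturality_right, Category.id_comp]
    rw [h0, Category.assoc]
    congr 1
    have h2 : (CohPull.invPushAdj g).unit.app (CohTop.const X (ULift.{u} ℤ)) ≫
        (CohTop.push g).map (((CohPull.invPushAdj g).homEquiv _ _).symm b) = b := by
      exact ((CohPull.invPushAdj g).homEquiv_unit _ _ _).symm.trans (Equiv.apply_symm_apply _ _)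
    exact congrArg (fun t => t.hom.app (op ⊤)) h2
  exact congrArg (AddCommGrpCat.uliftZMultiplesAddEquiv _) e

variable {X' X : Scheme.{u}}

/-- The class of a global cocycle, as a class of maps out of the constant sheaf. -/
theorem exists_clsTop_eq (R : Res X.Modules) (p : ℕ) (z : R.Cyc ⊤ p) :
    ∃ h, Res.clsTop R p z = Res.cls (constZ X.toTopCat) p R.ab
      ⟨(freeOpenTopIso X.toTopCat).inv ≫ Res.toFree R ⊤ p z.1, h⟩ := by
  have h0 : Res.toFree R ⊤ p z.1 ≫ R.ab.d p = 0 := by
    rw [Res.toFree_comp_d, Res.mem_cyc.1 z.2, map_zero]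
  refine ⟨?_, ?_⟩
  · change ((freeOpenTopIso X.toTopCat).inv ≫ Res.toFree R ⊤ p z.1) ≫ R.ab.d p = 0
    rw [Category.assoc, h0, comp_zero]
  · exact (Res.cls_precomp (freeOpenTopIso X.toTopCat).inv p R.ab
      ⟨Res.toFree R ⊤ p z.1, h0⟩ _ rfl).symm

/-- Pullback of the class of a cocycle is the class of the pulled back cocycle. -/
theorem pullMod_clsTop (g : X' ⟶ X) (R : Res X.Modules) (R' : Res X'.Modules)
    (f₀ : (Scheme.Modules.pullback g).obj R.Y ⟶ R'.Y)
    (ψ : ∀ n, (toAbF X).obj (R.A n) ⟶ (CohTop.push g.base).obj ((toAbF X').obj (R'.A n)))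
    (hψ : ∀ n, (toAbF X).map (R.d n) ≫ ψ (n + 1) =
      ψ n ≫ (CohTop.push g.base).map ((toAbF X').map (R'.d n)))
    (hι : (toAbF X).map R.ι ≫ ψ 0 = (toAbF X).map
      ((Scheme.Modules.pullbackPushforwardAdjunction g).homEquiv _ _ (f₀ ≫ R'.ι)))
    (p : ℕ) (z : R.Cyc ⊤ p) (z' : R'.Cyc ⊤ p) (hz : z'.1 = (ψ p).hom.app (op ⊤) z.1) :
    CohPull.mapH f₀ p (CohPull.pullMod g R.Y p (Res.clsTop R p z)) = Res.clsTop R' p z' := by
  let G := CohPull.inv g.base
  let φ : Res.Hom (R.ab.mapExact G) R'.ab :=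
    { f₀ := CohPull.theta g R.Y ≫ (toAbF X').map f₀
      f := fun n => ((CohPull.invPushAdj g.base).homEquiv _ _).symm (ψ n)
      comm₀ := by
        apply ((CohPull.invPushAdj g.base).homEquiv _ _).injective
        refine (Adjunction.homEquiv_naturality_left _ _ _).trans ?_
        rw [Equiv.apply_symm_apply]
        refine hι.trans ?_
        refine Eq.trans ?_ (congrArg ((CohPull.invPushAdj g.base).homEquiv _ _)
          (Category.assoc _ _ _).symm)
        refine Eq.trans ?_ ((CohPull.invPushAdj g.base).homEquiv_naturality_right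
          (CohPull.theta g R.Y) ((toAbF X').map f₀ ≫ R'.ab.ι)).symm
        refine Eq.trans ?_ (congrArg (· ≫ (CohTop.push g.base).map ((toAbF X').map f₀ ≫ R'.ab.ι))
          ((CohPull.invPushAdj g.base).homEquiv _ _ |>.apply_symm_apply _).symm)
        rw [Adjunction.homEquiv_unit, Functor.map_comp]
        exact congrArg ((toAbF X).map
          ((Scheme.Modules.pullbackPushforwardAdjunction g).unit.app R.Y) ≫ ·)
          (congrArg (CohTop.push g.base).map (Functor.map_comp (toAbF X') f₀ R'.ι))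
      comm := fun n => by
        apply ((CohPull.invPushAdj g.base).homEquiv _ _).injective
        refine (Adjunction.homEquiv_naturality_left _ _ _).trans ?_
        rw [Equiv.apply_symm_apply, Adjunction.homEquiv_naturality_right, Equiv.apply_symm_apply]
        exact hψ n }
  obtain ⟨h, e⟩ := exists_clsTop_eq R p z
  obtain ⟨h', e'⟩ := exists_clsTop_eq R' p z'
  let a := (freeOpenTopIso X.toTopCat).inv ≫ Res.toFree R ⊤ p z.1
  have ha1 : G.map a ≫ (R.ab.mapExact G).d p = 0 := by
    refine (G.map_comp _ _).symm.trans ?_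
    rw [show a ≫ R.ab.d p = 0 from h, G.map_zero]
  have ha2 : (CohPull.oneTo g.base ≫ G.map a) ≫ (R.ab.mapExact G).d p = 0 := by
    rw [Category.assoc, ha1, comp_zero]
  rw [e, e']
  change Sheaf.H.map ((toAbF X').map f₀) p (Sheaf.H.map (CohPull.theta g R.Y) p
    (CohPull.pullAb g.base _ p _)) = _
  rw [Sheaf.H.map_apply, Sheaf.H.map_apply]
  have e1 : CohPull.pullAb g.base _ p (Res.cls (constZ X.toTopCat) p R.ab ⟨a, h⟩) =
      Res.cls (constZ X'.toTopCat) p (R.ab.mapExact G) ⟨CohPull.oneTo g.base ≫ G.map a, ha2⟩ := by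
    change (Ext.mk₀ (CohPull.oneTo g.base)).comp
      ((Res.cls (constZ X.toTopCat) p R.ab ⟨a, h⟩).mapExactFunctor G) (zero_add p) = _
    rw [Res.mapExactFunctor_cls G (constZ X.toTopCat) p R.ab ⟨a, h⟩ ⟨G.map a, ha1⟩ rfl]
    exact (Res.cls_precomp (CohPull.oneTo g.base) p (R.ab.mapExact G) _ _ rfl).symm
  erw [e1]
  refine (Ext.comp_assoc_of_second_deg_zero _ _ _ _).trans ?_
  rw [Ext.mk₀_comp_mk₀]
  refine (Res.cls_map _ p φ _ _ ?_).symm
  change (freeOpenTopIso X'.toTopCat).inv ≫ Res.toFree R' ⊤ p z'.1 =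
    (CohPull.oneTo g.base ≫ G.map a) ≫ ((CohPull.invPushAdj g.base).homEquiv _ _).symm (ψ p)
  rw [Category.assoc, ← Adjunction.homEquiv_naturality_left_symm]
  apply (homConstZ _).injective
  refine Eq.trans ?_ (homConstZ_oneTo_comp g.base (a ≫ ψ p)).symm
  rw [homConstZ_inv_comp, homConstZ_comp]
  erw [homConstZ_inv_comp]
  erw [show homFreeOpen (X := X'.toTopCat) ⊤ (R'.ab.A p) (Res.toFree R' ⊤ p z'.1) = z'.1 from
      (homFreeOpen (X := X'.toTopCat) ⊤ (R'.ab.A p)).apply_symm_apply z'.1,
    show homFreeOpen (X := X.toTopCat) ⊤ (R.ab.A p) (Res.toFree R ⊤ p z.1) = z.1 from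
      (homFreeOpen (X := X.toTopCat) ⊤ (R.ab.A p)).apply_symm_apply z.1]
  exact hz

end Groth.CohCmpLib
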