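import Groth.Agent.CohCmpLib.GenBC
import Groth.Agent.DescentBase.El

/-!
# Functoriality of pullback of cohomology between opens
-/

universe u

open CategoryTheory Limits AlgebraicGeometry TopologicalSpace Opposite
open Groth.CohBase
open Groth.QCohMod (res_app)
open Groth.PicAux (pullSec res_pullSec)

set_option maxHeartbeats 800000
set_option backward.isDefEq.respectTransparency false
set_option backward.defeqAttrib.useBackward true
set_option backward.isDefEq.respectTransparency.types false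

namespace Groth.CohCmpLib

variable {X X' X'' : Scheme.{u}}

/-- Pullback of classes between opens along a composite. -/
theorem pullOn_comp (a₀ : X'' ⟶ X') (b₀ : X' ⟶ X) (U : X.Opens) (U' : X'.Opens) (U'' : X''.Opens)
    (h : U' ≤ b₀ ⁻¹ᵁ U) (h' : U'' ≤ a₀ ⁻¹ᵁ U') (h'' : U'' ≤ (a₀ ≫ b₀) ⁻¹ᵁ U) (F : X.Modules)
    (p : ℕ) (x : Coh.HHon X F U p) :
    CohPull.mapH ((Scheme.Modules.restrictFunctor U''.ι).map
        ((Scheme.Modules.pullbackComp a₀ b₀).hom.app F)) p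
      (CohPull.pullOn a₀ U' U'' h' ((Scheme.Modules.pullback b₀).obj F) p
        (CohPull.pullOn b₀ U U' h F p x)) =
      CohPull.pullOn (a₀ ≫ b₀) U U'' h'' F p x := by
  let M := (Scheme.Modules.pullback b₀).obj F
  let P := (Scheme.Modules.pullback (a₀ ≫ b₀)).obj F
  change CohPull.mapH ((Scheme.Modules.restrictFunctor U''.ι).map
      ((Scheme.Modules.pullbackComp a₀ b₀).hom.app F)) p
      (CohPull.mapH (CohPull.pullOnIso a₀ U' U'' h' M).hom p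
        (CohPull.pullMod (a₀.resLE U' U'' h') (M.restrict U'.ι) p
          (CohPull.mapH (CohPull.pullOnIso b₀ U U' h F).hom p
            (CohPull.pullMod (b₀.resLE U U' h) (F.restrict U.ι) p x)))) =
    CohPull.mapH (CohPull.pullOnIso (a₀ ≫ b₀) U U'' h'' F).hom p
      (CohPull.pullMod ((a₀ ≫ b₀).resLE U U'' h'') (F.restrict U.ι) p x)
  refine (mapH_comp (CohPull.pullOnIso a₀ U' U'' h' M).hom _ p _).symm.trans ?_
  let a := a₀.resLE U' U'' h'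
  let b := b₀.resLE U U' h
  have hc : a ≫ b = (a₀ ≫ b₀).resLE U U'' h'' := by
    rw [← cancel_mono U.ι]
    simp [a, b, Scheme.Hom.resLE_comp_ι]
  refine pullMod_comp a b _ hc _ _ _ (fun W m => ?_) p x
  let m' : Γ(F, U.ι ''ᵁ W) := m
  let y : Γ(M, b₀ ⁻¹ᵁ (U.ι ''ᵁ W)) := pullSec b₀ F m'
  have eb : (CohPull.pullOnIso b₀ U U' h F).hom.app (b ⁻¹ᵁ W) (pullSec b (F.restrict U.ι) m) =
      (QCohMod.res M (resLE_image_le b₀ U U' h W) y : Γ(M, U'.ι ''ᵁ (b ⁻¹ᵁ W))) := by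
    refine Eq.trans ?_ (pullOnIso_pullSec b₀ U U' h F m' W le_rfl (resLE_image_le b₀ U U' h W))
    exact congrArg _ (congrArg (pullSec b (F.restrict U.ι)) (QCohMod.res_self F m').symm)
  have ec : (CohPull.pullOnIso (a₀ ≫ b₀) U U'' h'' F).hom.app
        ((a₀ ≫ b₀).resLE U U'' h'' ⁻¹ᵁ W)
        (pullSec ((a₀ ≫ b₀).resLE U U'' h'') (F.restrict U.ι) m) =
      (QCohMod.res P (resLE_image_le (a₀ ≫ b₀) U U'' h'' W) (pullSec (a₀ ≫ b₀) F m') :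
        Γ(P, U''.ι ''ᵁ ((a₀ ≫ b₀).resLE U U'' h'' ⁻¹ᵁ W))) := by
    refine Eq.trans ?_ (pullOnIso_pullSec (a₀ ≫ b₀) U U'' h'' F m' W le_rfl
      (resLE_image_le (a₀ ≫ b₀) U U'' h'' W))
    exact congrArg _ (congrArg (pullSec _ (F.restrict U.ι)) (QCohMod.res_self F m').symm)
  have le₂ : U''.ι ''ᵁ (a ⁻¹ᵁ b ⁻¹ᵁ W) ≤ a₀ ⁻¹ᵁ b₀ ⁻¹ᵁ (U.ι ''ᵁ W) :=
    le_trans (resLE_image_le a₀ U' U'' h' (b ⁻¹ᵁ W))
      (a₀.preimage_mono (resLE_image_le b₀ U U' h W))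
  have ea : ((CohPull.pullOnIso a₀ U' U'' h' M).hom ≫
      (Scheme.Modules.restrictFunctor U''.ι).map ((Scheme.Modules.pullbackComp a₀ b₀).hom.app F)).app
        (a ⁻¹ᵁ b ⁻¹ᵁ W) (pullSec a (M.restrict U'.ι)
          (QCohMod.res M (resLE_image_le b₀ U U' h W) y : Γ(M, U'.ι ''ᵁ (b ⁻¹ᵁ W)))) =
      (QCohMod.res P le₂ (pullSec (a₀ ≫ b₀) F m') : Γ(P, U''.ι ''ᵁ (a ⁻¹ᵁ b ⁻¹ᵁ W))) := by
    refine (congrArg (((Scheme.Modules.pullbackComp a₀ b₀).hom.app F).app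
        (U''.ι ''ᵁ (a ⁻¹ᵁ b ⁻¹ᵁ W)))
      (pullOnIso_pullSec a₀ U' U'' h' M y (b ⁻¹ᵁ W) (resLE_image_le b₀ U U' h W) le₂)).trans ?_
    refine (res_app ((Scheme.Modules.pullbackComp a₀ b₀).hom.app F) _ _).symm.trans ?_
    exact congrArg (QCohMod.res P le₂) (PicAux.pullSec_comp a₀ b₀ F m')
  rw [eb, ea]
  have hle : (a₀ ≫ b₀).resLE U U'' h'' ⁻¹ᵁ W ≤ a ⁻¹ᵁ b ⁻¹ᵁ W := by
    rw [← Scheme.Hom.comp_preimage, hc]
  refine ec.trans ?_
  exact (QCohMod.res_res P le₂ (U''.ι.image_mono hle) (pullSec (a₀ ≫ b₀) F m')).symm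

variable {S S' : Scheme.{u}} {f : X ⟶ S} {g : S' ⟶ S} {f' : X' ⟶ S'} {g' : X' ⟶ X}
  [HasInjectiveResolutions X.Modules] [HasInjectiveResolutions X'.Modules]
  {Δ : RDer.DerivedLES (Scheme.Modules.pushforward f)}
  {Δ' : RDer.DerivedLES (Scheme.Modules.pushforward f')}
  {E : CohCmp.SectCmp f Δ} {E' : CohCmp.SectCmp f' Δ'}

/-- The base change map on pulled back classes. -/
theorem bc_pullSec_eps {w : g' ≫ f = f' ≫ g} (B : CohCmp.GenBC f g f' g' w E E') (p : ℕ)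
    (F : X.Modules) (V : S.Opens) (x : Coh.HHon X F (f ⁻¹ᵁ V) p) :
    (B.bc p F).app (g ⁻¹ᵁ V) (pullSec g _ (E.ε V F p x)) =
      E'.ε (g ⁻¹ᵁ V) ((Scheme.Modules.pullback g').obj F) p
        (CohPull.pullOn g' (f ⁻¹ᵁ V) (f' ⁻¹ᵁ (g ⁻¹ᵁ V)) (CohCmp.sqLE f g f' g' w V) F p x) :=
  (bc_pullSec B p F V _).trans (B.compat V F p x)

end Groth.CohCmpLib
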